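import Groth.Agent.Coherent.K51.CxAmp
import Groth.Agent.Ega3B.Master
import Groth.Agent.Coherent.K54.FibreSpec
import Groth.Agent.CurvesB.GenFibre

/-!
# The universal complex with prescribed amplitude
-/

set_option autoImplicit false
universe u

open CategoryTheory CategoryTheory.Limits AlgebraicGeometry

namespace Groth.Agent.Coherent.K51.Amp

open CxAmp

/-- `B` as an `A`-module. -/
noncomputable def ofEquiv (A B : Type u) [CommRing A] [CommRing B] [Algebra A B] :
    ((ModuleCat.restrictScalars (algebraMap A B)).obj (ModuleCat.of B B)) ≃ₗ[A] (ModuleCat.of A B) where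
  toFun := fun x => x
  invFun := fun x => x
  map_add' := fun _ _ => rfl
  map_smul' := fun a x => (Algebra.smul_def a (show B from x)).symm
  left_inv := fun _ => rfl
  right_inv := fun _ => rfl

/-- `B` as an `A`-module. -/
noncomputable def ofIso (A B : Type u) [CommRing A] [CommRing B] [Algebra A B] :
    (ModuleCat.restrictScalars (algebraMap A B)).obj (ModuleCat.of B B) ≅ ModuleCat.of A B :=
  (ofEquiv A B).toModuleIso

/-- `H^p(X_B, F_B) ≅ T(B)` from a functor computing `M ↦ H^p(X, F ⊗ M)`. -/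
theorem nonempty_addEquiv {A : Type u} [CommRing A] (X : Scheme.{u}) [X.Over (Spec (CommRingCat.of A))]
    [CompactSpace X] [IsSeparated (X ↘ Spec (CommRingCat.of A))] (F : X.Modules) (hF : Coh.IsQCoh F)
    (P : ChainComplex (ModuleCat.{u} A) ℤ) (p : ℕ)
    (hT : Nonempty (CohIII.tensorAFunctor A F ⋙ CohIII.HAb X p ≅
        CohIII.TFun P (-(p : ℤ)) ⋙ forget₂ (ModuleCat.{u} A) AddCommGrpCat.{u}))
    (B : Type u) [CommRing B] [Algebra A B] :
    Nonempty (Coh.HH (pullback (X ↘ Spec (CommRingCat.of A)) (Spec.map (CommRingCat.ofHom (algebraMap A B))))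
            ((Scheme.Modules.pullback (pullback.fst (X ↘ Spec (CommRingCat.of A))
              (Spec.map (CommRingCat.ofHom (algebraMap A B))))).obj F) p ≃+
          CohIII.T P (-(p : ℤ)) (ModuleCat.of A B)) := by
  let Y := pullback (X ↘ Spec (CommRingCat.of A)) (Spec.map (CommRingCat.ofHom (algebraMap A B)))
  let _ : Y.Over (Spec (CommRingCat.of B)) := ⟨pullback.snd _ _⟩
  have hadd : (CohIII.TFun P (-(p : ℤ))).Additive := inferInstance
  obtain ⟨E, -⟩ := CurvesB.GenFibre.exists_addEquiv (algebraMap A B) (Y := Y)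
    (pullback.fst (X ↘ Spec (CommRingCat.of A)) (Spec.map (CommRingCat.ofHom (algebraMap A B))))
    (IsPullback.of_hasPullback _ _) F hF _ (Iso.refl _) p (CohIII.TFun P (-(p : ℤ))) hT
  exact ⟨E.symm.trans ((CohIII.TFun P (-(p : ℤ))).mapIso (ofIso A B)).toLinearEquiv.toAddEquiv⟩

theorem exists_complex (A : Type u) [CommRing A] [IsNoetherianRing A] (X : Scheme.{u})
    [X.Over (Spec (CommRingCat.of A))] [IsProper (X ↘ Spec (CommRingCat.of A))] (F : X.Modules) (hF : Coh.IsCoh F)
    (hfl : FlatMod.IsFlatOver (X ↘ Spec (CommRingCat.of A)) F) (d' d : ℕ)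
    (hd : ∀ p : ℕ, d < p → Subsingleton (Coh.HH X F p))
    (hd' : ∀ (y : ↑(Spec (CommRingCat.of A))) (p : ℕ), p < d' →
      Subsingleton (CohIII.fiberH (X ↘ Spec (CommRingCat.of A)) F y p)) :
    ∃ L : CochainComplex (ModuleCat.{u} A) ℤ,
      (∀ i, Module.Finite A (L.X i) ∧ Module.Projective A (L.X i)) ∧
      (∀ i : ℤ, i < (d' : ℤ) ∨ (d : ℤ) < i → IsZero (L.X i)) ∧
      ((∀ p : ℕ, Subsingleton (Coh.HH X F p)) → ∀ i, IsZero (L.X i)) ∧
      ∀ (B : Type u) [CommRing B] [Algebra A B] (p : ℕ),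
        Nonempty (Coh.HH (pullback (X ↘ Spec (CommRingCat.of A)) (Spec.map (CommRingCat.ofHom (algebraMap A B))))
            ((Scheme.Modules.pullback (pullback.fst (X ↘ Spec (CommRingCat.of A))
              (Spec.map (CommRingCat.ofHom (algebraMap A B))))).obj F) p ≃+
          CohIII.T L (p : ℤ) (ModuleCat.of A B)) := by
  obtain ⟨P, hP, ⟨b, hb⟩, hT, hH⟩ := Groth.Agent.Ega3B.Master.exists_complex' X F hF hfl
  have hP' : ∀ i, Module.Finite A (P.X i) ∧ Module.Projective A (P.X i) := fun i => by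
    have h1 := (hP i).1
    have h2 := (hP i).2
    have : Module.FinitePresentation A (P.X i) := Module.finitePresentation_of_finite A _
    exact ⟨h1, Module.Flat.projective_of_finitePresentation⟩
  let K := toCochain P
  have hK : ∀ i, Module.Finite A (K.X i) ∧ Module.Projective A (K.X i) := fun i => hP' (-i)
  have hKb : K.IsStrictlyLE (-b) :=
    (CochainComplex.isStrictlyLE_iff K (-b)).2 fun i hi => hb (-i) (Or.inl (by omega))
  have hK0 : ∀ i : ℤ, i < 0 → IsZero (K.X i) := fun i hi => hb (-i) (Or.inr (by omega))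
  have hex0 : ∀ i : ℤ, i < 0 → K.ExactAt i := fun i hi => ShortComplex.exact_of_isZero_X₂ _ (hK0 i hi)
  have hexP : ∀ p : ℕ, IsZero (P.homology (-(p : ℤ))) → K.ExactAt (p : ℤ) := fun p hp => by
    rw [HomologicalComplex.exactAt_iff_isZero_homology]
    exact IsZero.of_iso hp (homologyIso P p)
  have hexH : ∀ p : ℕ, Subsingleton (Coh.HH X F p) → K.ExactAt (p : ℤ) := fun p hp => by
    obtain ⟨e⟩ := hH p
    have : Subsingleton (P.homology (-(p : ℤ))) := e.toEquiv.subsingleton
    exact hexP p (ModuleCat.isZero_of_subsingleton _)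
  have hqc : Coh.IsQCoh F := hF.1
  have hc : CompactSpace X := QuasiCompact.compactSpace_of_compactSpace (X ↘ Spec (CommRingCat.of A))
  have hdR0 : ∀ p : ℕ, p < d' → ∀ y : ↑(Spec (CommRingCat.of A)),
      CohIII.fiberRank (X ↘ Spec (CommRingCat.of A)) F p y = 0 := fun p hp y => by
    have := hd' y p hp
    unfold CohIII.fiberRank
    exact Module.finrank_zero_of_subsingleton
  have hdR : ∀ p : ℕ, p < d' → ∀ x, CohIII.dRank P (-(p : ℤ)) x = 0 := fun p hp x => by
    have h1 := (_root_.K54.FibreSpec.fiberRank_spec X F hqc P p (hP' _).1 (hT p) x).2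
    rw [← h1]
    exact hdR0 p hp x
  obtain ⟨L, hL1, hL2, hL3, hL4⟩ := exists_trunc K hK (-b) (d' : ℤ) (d : ℤ) (fun i hi => by
      obtain ⟨p, rfl⟩ := Int.eq_ofNat_of_zero_le (show 0 ≤ i by omega)
      exact hexH p (hd p (by omega)))
    (fun i hi => by
      rcases lt_or_ge i 0 with h | h
      · exact hex0 i h
      · obtain ⟨p, rfl⟩ := Int.eq_ofNat_of_zero_le h
        exact hexP p (_root_.K54.CxAlg.isZero_homology_of_dRank_eq_zero P hP' _ (hdR p (by omega))))
    (by
      refine (fp_of_iso (opcyclesIso P (d' : ℤ)).symm ⟨?_, ?_⟩).2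
      · have := (hP' (-(d' : ℤ))).1
        exact Module.Finite.of_surjective (P.pOpcycles (-(d' : ℤ))).hom
          ((ModuleCat.epi_iff_surjective (P.pOpcycles (-(d' : ℤ)))).1 inferInstance)
      · rcases Nat.eq_zero_or_pos d' with rfl | hpos
        · have hz : IsZero (P.X (-((0 : ℕ) : ℤ) + 1)) := hb _ (Or.inr (by simp))
          have : IsIso (P.pOpcycles (-((0 : ℕ) : ℤ))) :=
            P.isIso_pOpcycles (-((0 : ℕ) : ℤ) + 1) (-((0 : ℕ) : ℤ)) (by simp) (hz.eq_of_src _ _)
          exact (fp_of_iso (asIso (P.pOpcycles (-((0 : ℕ) : ℤ)))) (hP' _)).2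
        · exact (_root_.K54.CxAlg.projective_opcycles_of_dRank_eq_zero P hP' (-((d' - 1 : ℕ) : ℤ)) (-(d' : ℤ))
            (by omega) (hdR (d' - 1) (by omega))).2.1)
  refine ⟨L, hL1, hL2, fun h => hL3 fun i => ?_, fun B _ _ p => ?_⟩
  · rcases lt_or_ge i 0 with h' | h'
    · exact hex0 i h'
    · obtain ⟨p, rfl⟩ := Int.eq_ofNat_of_zero_le h'
      exact hexH p (h p)
  · obtain ⟨e1⟩ := hL4 p (ModuleCat.of A B)
    obtain ⟨e2⟩ := nonempty_T_neg P p (ModuleCat.of A B)
    obtain ⟨e3⟩ := nonempty_addEquiv X F hqc P p (hT p) B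
    exact ⟨e3.trans ((e1 ≪≫ e2).symm.toLinearEquiv.toAddEquiv)⟩

end Groth.Agent.Coherent.K51.Amp
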