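import Groth.Agent.LoccohB.FibreReg
import Groth.Agent.CalgB.CM3
import Mathlib.RingTheory.Regular.RegularSequence

/-!
# Complete intersections in affine space: the equations form a regular sequence

`mem_of_mul_mem`: if `g_0, …, g_r` in `k[x_1, …, x_n]` cut out a closed subscheme of dimension at most `n - (r + 1)`
then `g_r x ∈ (g_0, …, g_{r-1})` implies `x ∈ (g_0, …, g_{r-1})`.
-/

set_option autoImplicit false

universe u

namespace Groth.Agent.Coherent.K51.CIAlg

open IsLocalRing RingTheory.Sequence

/-- The dimension of a localization modulo an ideal. -/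
theorem ringKrullDim_quotient_map_le {R : Type u} [CommRing R] (M : Submonoid R) (A : Type u) [CommRing A]
    [Algebra R A] [IsLocalization M A] (I : Ideal R) :
    ringKrullDim (A ⧸ I.map (algebraMap R A)) ≤ ringKrullDim (R ⧸ I) := by
  let φ : R ⧸ I →+* A ⧸ I.map (algebraMap R A) :=
    Ideal.quotientMap _ (algebraMap R A) Ideal.le_comap_map
  have hinj : Function.Injective (PrimeSpectrum.comap φ) := by
    have h1 : Function.Injective (PrimeSpectrum.comap (φ.comp (Ideal.Quotient.mk I))) := by
      have h2 : φ.comp (Ideal.Quotient.mk I) =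
          (Ideal.Quotient.mk (I.map (algebraMap R A))).comp (algebraMap R A) := by
        ext x; rfl
      rw [h2, PrimeSpectrum.comap_comp]
      exact (PrimeSpectrum.localization_comap_injective A M).comp
        (PrimeSpectrum.comap_injective_of_surjective _ Ideal.Quotient.mk_surjective)
    rw [PrimeSpectrum.comap_comp] at h1
    exact h1.of_comp
  exact Order.krullDim_le_of_strictMono (PrimeSpectrum.comap φ)
    (Monotone.strictMono_of_injective (fun p q h => Ideal.comap_mono h) hinj)

theorem ofList_ofFn {R : Type u} [CommRing R] {r : ℕ} (g : Fin r → R) :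
    Ideal.ofList (List.ofFn g) = Ideal.span (Set.range g) := by
  rw [Ideal.ofList]
  congr 1
  ext x
  simp [List.mem_ofFn]

theorem mem_of_mul_mem_of_isWeaklyRegular {R : Type u} [CommRing R] {r : ℕ} (g : Fin (r + 1) → R)
    (h : IsWeaklyRegular R (List.ofFn g)) (f : R)
    (hf : g (Fin.last r) * f ∈ Ideal.span (Set.range fun j : Fin r => g j.castSucc)) :
    f ∈ Ideal.span (Set.range fun j : Fin r => g j.castSucc) := by
  rw [List.ofFn_succ', List.concat_eq_append, isWeaklyRegular_append_iff] at h
  have h1 := (isWeaklyRegular_singleton_iff _ _).1 h.2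
  have h3 := h1 (a₁ := Submodule.Quotient.mk f) (a₂ := 0) (by
    change g (Fin.last r) • Submodule.Quotient.mk f = g (Fin.last r) • (0 : R ⧸ _)
    rw [smul_zero]
    change Submodule.Quotient.mk (g (Fin.last r) • f) = 0
    rw [Submodule.Quotient.mk_eq_zero, smul_eq_mul, smul_eq_mul, Ideal.mul_top, ofList_ofFn]
    exact hf)
  rw [Submodule.Quotient.mk_eq_zero, smul_eq_mul, Ideal.mul_top, ofList_ofFn] at h3
  exact h3

/-- The equations of a complete intersection in affine space: each is a nonzerodivisor modulo the previous ones. -/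
theorem mem_of_mul_mem (k : Type u) [Field k] (n r : ℕ) (g : Fin (r + 1) → MvPolynomial (Fin n) k)
    (hd : ringKrullDim (MvPolynomial (Fin n) k ⧸ Ideal.span (Set.range g)) + ((r + 1 : ℕ) : WithBot ℕ∞) ≤
      (n : WithBot ℕ∞))
    (x : MvPolynomial (Fin n) k)
    (hx : g (Fin.last r) * x ∈ Ideal.span (Set.range fun j : Fin r => g j.castSucc)) :
    x ∈ Ideal.span (Set.range fun j : Fin r => g j.castSucc) := by
  refine Ideal.mem_of_localization_maximal fun P hP => ?_
  obtain ⟨hCM, hdim⟩ := LoccohB.FibreReg.cm_of_ringEquiv_mvPolynomial k n _ (RingEquiv.refl _) P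
  have hmapspan : ∀ (s : ℕ) (h : Fin s → MvPolynomial (Fin n) k),
      Ideal.map (algebraMap _ (Localization.AtPrime P)) (Ideal.span (Set.range h)) =
      Ideal.span (Set.range fun j => algebraMap _ (Localization.AtPrime P) (h j)) := by
    intro s h
    rw [Ideal.map_span, ← Set.range_comp]
    rfl
  rw [hmapspan]
  have hx' : algebraMap _ (Localization.AtPrime P) (g (Fin.last r)) * algebraMap _ (Localization.AtPrime P) x ∈
      Ideal.span (Set.range fun j : Fin r => algebraMap _ (Localization.AtPrime P) (g j.castSucc)) := by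
    rw [← hmapspan, ← map_mul]
    exact Ideal.mem_map_of_mem _ hx
  by_cases hall : ∀ j, g j ∈ P
  · refine mem_of_mul_mem_of_isWeaklyRegular (fun j => algebraMap _ (Localization.AtPrime P) (g j)) ?_ _ hx'
    have hN : IsNoetherianRing (Localization.AtPrime P) := hCM.toIsNoetherian
    have mem : ∀ a ∈ List.ofFn (fun j => algebraMap _ (Localization.AtPrime P) (g j)),
        a ∈ maximalIdeal (Localization.AtPrime P) := by
      intro a ha
      obtain ⟨j, rfl⟩ := (List.mem_ofFn).mp ha
      rw [IsLocalization.AtPrime.to_map_mem_maximal_iff (Localization.AtPrime P) P]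
      exact hall j
    refine CalgB.CM3.isWeaklyRegular_of_supportDim_add_length_le hCM.supportDim_eq_depth _ mem ?_
    have e : (Localization.AtPrime P ⧸ Ideal.ofList (List.ofFn (fun j => algebraMap _ (Localization.AtPrime P) (g j))) •
        (⊤ : Submodule (Localization.AtPrime P) (Localization.AtPrime P))) ≃ₗ[Localization.AtPrime P]
        Localization.AtPrime P ⧸ Ideal.ofList (List.ofFn (fun j => algebraMap _ (Localization.AtPrime P) (g j))) :=
      Submodule.quotEquivOfEq _ _ (by rw [smul_eq_mul, Ideal.mul_top])
    rw [Module.supportDim_eq_of_equiv e, Module.supportDim_quotient_eq_ringKrullDim,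
      Module.supportDim_self_eq_ringKrullDim, hdim, ofList_ofFn, ← hmapspan, List.length_ofFn]
    refine le_trans ?_ hd
    exact add_le_add_left (ringKrullDim_quotient_map_le P.primeCompl _ _) _
  · push Not at hall
    obtain ⟨j, hj⟩ := hall
    have hu : IsUnit (algebraMap _ (Localization.AtPrime P) (g j)) :=
      IsLocalization.map_units (Localization.AtPrime P) (⟨g j, hj⟩ : P.primeCompl)
    rcases Fin.eq_castSucc_or_eq_last j with ⟨i, rfl⟩ | rfl
    · have : Ideal.span (Set.range fun j : Fin r => algebraMap _ (Localization.AtPrime P) (g j.castSucc)) = ⊤ :=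
        Ideal.eq_top_of_isUnit_mem _ (Ideal.subset_span ⟨i, rfl⟩) hu
      rw [this]; trivial
    · exact (Ideal.unit_mul_mem_iff_mem _ hu).1 hx'

end Groth.Agent.Coherent.K51.CIAlg
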