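import Groth.Agent.Coherent.K51.CIGood
import Groth.Agent.Ega4late.H544.BaseCh
import Groth.Agent.CurvesC.PointScheme
import Groth.Agent.Lefpen.H21.CiBase
import Groth.Agent.S0024
import Groth.Agent.Fga.UnitRestrict
import Mathlib.RingTheory.Regular.Flat
import Mathlib.AlgebraicGeometry.Geometrically.Connected

/-!
# Complete intersections of positive dimension are geometrically connected
-/

set_option autoImplicit false
universe u

open CategoryTheory AlgebraicGeometry Limits TopologicalSpace Opposite MvPolynomial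

namespace Groth.Agent.Coherent.K51.CIConn

open LefPen Groth.Agent.Lefpen.H718.Chart Groth.Agent.Lefpen.H121.ChartLift Groth.Agent.Sga5
open CIGood CIReg

section Flat

variable {N r : ℕ} {k K : Type u} [Field k] [Field K] (φ : k →+* K)

/-- Regular sequences of forms are stable under field extension. -/
theorem isReg_map {a : Fin r → ℕ} (G : ∀ j : Fin r, Form N k (a j)) (hG : IsReg G) :
    IsReg (fun j => Groth.Agent.Lefpen.H21.CiBase.mapForm φ (G j)) := by
  have h1 : RingTheory.Sequence.IsWeaklyRegular (MvPolynomial (Fin (N + 1)) k) (List.ofFn fun j => (G j).1) :=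
    Groth.Agent.Lefpen.H728.RegSeq.isWeaklyRegular_of_mem_of_mul_mem _ hG
  let _ : Algebra k K := φ.toAlgebra
  let _ : Algebra (MvPolynomial (Fin (N + 1)) k) (MvPolynomial (Fin (N + 1)) K) := MvPolynomial.algebraMvPolynomial
  have h2 : Module.Flat (MvPolynomial (Fin (N + 1)) k) (MvPolynomial (Fin (N + 1)) K) :=
    Groth.Agent.Ega4late.H544.BaseCh.flat_map (C := k) (C' := K) (Fin (N + 1))
  have h3 := h1.of_flat (S := MvPolynomial (Fin (N + 1)) K)
  rw [List.map_ofFn] at h3
  intro c f hf
  exact Groth.Agent.Lefpen.H728.RegSeq.mem_of_mul_mem_of_isWeaklyRegular _ h3 c f hf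

end Flat

section Conn

variable {N : ℕ} {k : Type u} [Field k] {X Y : Scheme.{u}}

theorem bijective_app {M M' : X.Modules} (φ : M ⟶ M') [IsIso φ] (U : X.Opens) : Function.Bijective (φ.app U) :=
  CategoryTheory.ConcreteCategory.bijective_of_isIso (φ.app U)

theorem surjective_unit_of_iso (f : X ⟶ Y) {M M' : Y.Modules} (e : M ≅ M')
    (h : Function.Surjective (((Scheme.Modules.pullbackPushforwardAdjunction f).unit.app M).app ⊤)) :
    Function.Surjective (((Scheme.Modules.pullbackPushforwardAdjunction f).unit.app M').app ⊤) := by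
  have h1 := (Scheme.Modules.pullbackPushforwardAdjunction f).unit.naturality e.inv
  have h2 := bijective_app ((Scheme.Modules.pullback f ⋙ Scheme.Modules.pushforward f).map e.inv) ⊤
  have h3 := bijective_app e.inv ⊤
  have h4 : ∀ z, ((Scheme.Modules.pullbackPushforwardAdjunction f).unit.app M).app ⊤ (e.inv.app ⊤ z) =
      ((Scheme.Modules.pullback f ⋙ Scheme.Modules.pushforward f).map e.inv).app ⊤
        (((Scheme.Modules.pullbackPushforwardAdjunction f).unit.app M').app ⊤ z) := fun z => congr(($h1).app ⊤ z)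
  intro y
  obtain ⟨z, hz⟩ := h (((Scheme.Modules.pullback f ⋙ Scheme.Modules.pushforward f).map e.inv).app ⊤ y)
  obtain ⟨z', rfl⟩ := h3.2 z
  exact ⟨z', h2.1 ((h4 z').symm.trans hz)⟩

theorem surjective_appTop_of_unit (f : X ⟶ Y)
    (h : Function.Surjective
      (((Scheme.Modules.pullbackPushforwardAdjunction f).unit.app (Coh.structureModule Y)).app ⊤)) :
    Function.Surjective f.appTop.hom := by
  have h2 := Fga.UnitRestrict.unit_pullbackUnitHom f
  have h3 := bijective_app (Fga.UnitRestrict.pullbackUnitHom f) ⊤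
  intro y
  obtain ⟨y', hy'⟩ := h3.2 y
  obtain ⟨z, hz⟩ := h y'
  refine ⟨z, ?_⟩
  have h4 : (Fga.UnitRestrict.pullbackUnitHom f).app ⊤
      (((Scheme.Modules.pullbackPushforwardAdjunction f).unit.app (Coh.structureModule Y)).app ⊤ z) =
        (Fga.UnitRestrict.unitToPush f).app ⊤ z := congr(($h2).app ⊤ z)
  have h5 : (Fga.UnitRestrict.unitToPush f).app ⊤ z = f.appTop.hom z := rfl
  rw [← h5, ← h4, hz]
  exact hy'

theorem surjective_appTop {f : X ⟶ CohB1.ProjSpace N k} {d : ℕ} (h : Good f d) (hd : 1 ≤ d) :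
    Function.Surjective f.appTop.hom := by
  obtain ⟨e⟩ := Ega2.TwistInv.nonempty_unit_iso (CohB1.polyGrading N k)
  exact surjective_appTop_of_unit f (surjective_unit_of_iso f e.symm (h.surj hd 0))

theorem isField_projSpace : IsField Γ(CohB1.ProjSpace N k, ⊤) := by
  have h := S0024.result N k
  let e : k ≃+* Γ(CohB1.ProjSpace N k, ⊤) :=
    ((Scheme.ΓSpecIso (CommRingCat.of k)).symm ≪≫ asIso (CohB1.ProjSpace.toSpec N k).appTop).commRingCatIsoToRingEquiv
  exact e.symm.toMulEquiv.isField (Field.toIsField k)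

theorem connectedSpace {f : X ⟶ CohB1.ProjSpace N k} {d : ℕ} (h : Good f d) (hd : 1 ≤ d) [Nonempty X] :
    ConnectedSpace X := by
  have h1 := surjective_appTop h hd
  have h2 := isField_projSpace (N := N) (k := k)
  refine CurvesC.PointScheme.connectedSpace_of_idem fun e he => ?_
  obtain ⟨x, rfl⟩ := h1 e
  by_cases hx : f.appTop.hom x = 0
  · exact Or.inl hx
  · right
    have hx0 : x ≠ 0 := by
      rintro rfl
      exact hx (map_zero _)
    obtain ⟨y, hy⟩ := h2.mul_inv_cancel hx0
    have h3 : f.appTop.hom x * (f.appTop.hom x - 1) = 0 := by rw [mul_sub, mul_one, he.eq, sub_self]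
    have h4 : f.appTop.hom y * f.appTop.hom x = 1 := by rw [← map_mul, mul_comm, hy, map_one]
    have h5 : f.appTop.hom x - 1 = 0 := by
      calc f.appTop.hom x - 1 = (f.appTop.hom y * f.appTop.hom x) * (f.appTop.hom x - 1) := by rw [h4, one_mul]
        _ = 0 := by rw [mul_assoc, h3, mul_zero]
    exact sub_eq_zero.1 h5

end Conn

/-- A complete intersection of positive dimension in projective space is geometrically connected. -/
theorem geometricallyConnected {N r : ℕ} {k : Type u} [Field k] (hr : r + 1 ≤ N) {a : Fin r → ℕ}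
    (G : ∀ j : Fin r, Form N k (a j)) (hG : IsReg G) [Nonempty (ciIdeal G).subscheme] :
    GeometricallyConnected ((ciIdeal G).subschemeι ≫ CohB1.ProjSpace.toSpec N k) := by
  refine ⟨fun K _ y Z fst snd hZ => ?_⟩
  obtain ⟨φ, rfl⟩ := Spec.map_surjective y
  have h1 := good_ci r (by omega) _ _ (isReg_map φ.hom G hG)
  have h2 := Groth.Agent.Lefpen.H21.CiBase.isPullback_ciMap_toSpec φ.hom G _ (fun _ => rfl)
  have hne : Nonempty Z := by
    have : Surjective (Spec.map φ) := ⟨fun x => ⟨IsLocalRing.closedPoint K, Subsingleton.elim _ _⟩⟩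
    have h3 : Surjective fst := MorphismProperty.of_isPullback hZ.flip this
    obtain ⟨x⟩ := (inferInstance : Nonempty (ciIdeal G).subscheme)
    obtain ⟨z, -⟩ := h3.surj x
    exact ⟨z⟩
  let e : Z ≅ _ := hZ.isoIsPullback _ _ h2
  have hne' : Nonempty (ciIdeal fun j => Groth.Agent.Lefpen.H21.CiBase.mapForm φ.hom (G j)).subscheme := by
    obtain ⟨z⟩ := hne
    exact ⟨e.hom z⟩
  have h3 := connectedSpace h1 (by omega)
  exact (Scheme.homeoOfIso e.symm).surjective.connectedSpace (Scheme.homeoOfIso e.symm).continuous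

end Groth.Agent.Coherent.K51.CIConn
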