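import Groth.Agent.Coherent.K51.CIHeight

/-!
# Components of a scheme cut out by `r` forms in `P^N` have dimension at least `N - r`
-/

set_option autoImplicit false
universe u

open CategoryTheory AlgebraicGeometry Limits TopologicalSpace Opposite MvPolynomial

namespace Groth.Agent.Coherent.K51.CIEqui

open LefPen Groth.Agent.Lefpen.H718.Chart Groth.Agent.Lefpen.H121.ChartLift Groth.Agent.Sga5

section General

theorem ringKrullDim_quotient_comap {A B : Type u} [CommRing A] [CommRing B] (f : A →+* B)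
    (hf : Function.Surjective f) (q : Ideal B) : ringKrullDim (B ⧸ q) = ringKrullDim (A ⧸ q.comap f) := by
  have h3 : RingHom.ker ((Ideal.Quotient.mk q).comp f) = q.comap f := by
    rw [← RingHom.comap_ker, Ideal.mk_ker]
  rw [← h3]
  exact (ringKrullDim_eq_of_ringEquiv (RingHom.quotientKerEquivOfSurjective
    (f := (Ideal.Quotient.mk q).comp f) (Ideal.Quotient.mk_surjective.comp hf))).symm

theorem comap_mem_minimalPrimes {A B : Type u} [CommRing A] [CommRing B] (f : A →+* B)
    (hf : Function.Surjective f) (q : Ideal B) [q.IsPrime] (hq : ∀ q' : Ideal B, q'.IsPrime → q' ≤ q → q' = q) :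
    q.comap f ∈ (RingHom.ker f).minimalPrimes := by
  refine ⟨⟨Ideal.comap_isPrime f q, fun x hx => ?_⟩, fun p' hp' hle => ?_⟩
  · rw [Ideal.mem_comap, RingHom.mem_ker.1 hx]
    exact zero_mem _
  · have hp'' : p'.IsPrime := hp'.1
    have h5 : (p'.map f).IsPrime := Ideal.map_isPrime_of_surjective hf hp'.2
    have h6 : (p'.map f).comap f = p' := by
      rw [Ideal.comap_map_of_surjective _ hf, sup_eq_left]
      exact hp'.2
    have h8 := hq _ h5 (Ideal.map_le_iff_le_comap.2 hle)
    rw [← h6, h8]

/-- In a polynomial ring over a field, a prime minimal over an ideal generated by `r` elements has dimension at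
least `N - r`. -/
theorem le_ringKrullDim_quotient (k : Type u) [Field k] (N r : ℕ) (g : Fin r → MvPolynomial (Fin N) k)
    (p : Ideal (MvPolynomial (Fin N) k)) [hp : p.IsPrime] (h4 : p ∈ (Ideal.span (Set.range g)).minimalPrimes) :
    ((N - r : ℕ) : WithBot ℕ∞) ≤ ringKrullDim (MvPolynomial (Fin N) k ⧸ p) := by
  have h5 : p.height ≤ r := by
    refine (Ideal.height_le_card_of_mem_minimalPrimes_span (Set.finite_range _) h4).trans ?_
    have : (Set.range g).ncard ≤ r := by
      rw [← Set.image_univ]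
      refine (Set.ncard_image_le (Set.finite_univ)).trans ?_
      rw [Set.ncard_univ, Nat.card_eq_fintype_card, Fintype.card_fin]
    exact_mod_cast this
  have h6 := Groth.Agent.Ega4B.DimFT2.height_add_dim k (MvPolynomial (Fin N) k) p
  rw [MvPolynomial.ringKrullDim_of_isNoetherianRing, ringKrullDim_eq_zero_of_field, zero_add,
    Nat.card_eq_fintype_card, Fintype.card_fin] at h6
  obtain ⟨h, hh⟩ := ENat.ne_top_iff_exists.mp (ne_top_of_le_ne_top (ENat.natCast_ne_top r) h5)
  have h7 : (0 : WithBot ℕ∞) ≤ ringKrullDim (MvPolynomial (Fin N) k ⧸ p) := by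
    have := Ideal.Quotient.nontrivial_iff.2 hp.ne_top
    exact ringKrullDim_nonneg_of_nontrivial
  rw [← hh] at h5 h6
  have h8 : h ≤ r := by exact_mod_cast h5
  obtain ⟨d, hd⟩ := WithBot.ne_bot_iff_exists.1 (ne_bot_of_le_ne_bot (by simp) h7)
  rw [← hd] at h6 ⊢
  rw [← WithBot.coe_add] at h6
  have h9 : (h : ℕ∞) + d = (N : ℕ∞) := WithBot.coe_injective h6
  have h10 : ((N - r : ℕ) : ℕ∞) ≤ d := by
    obtain ⟨d', rfl⟩ : ∃ d' : ℕ, d = d' := by
      have : d ≠ ⊤ := by
        rintro rfl
        simp at h9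
      obtain ⟨d', hd'⟩ := ENat.ne_top_iff_exists.mp this
      exact ⟨d', hd'.symm⟩
    have : h + d' = N := by exact_mod_cast h9
    exact_mod_cast (by omega)
  exact WithBot.coe_le_coe.2 h10

variable {X : Scheme.{u}} {U : X.Opens} (hU : IsAffineOpen U)

/-- The closure of a point of an affine open has dimension at least that of the quotient by the corresponding
prime. -/
theorem ringKrullDim_quotient_le_closure (q : PrimeSpectrum Γ(X, U)) :
    ringKrullDim (Γ(X, U) ⧸ q.asIdeal) ≤ topologicalKrullDim (closure {hU.fromSpec q} : Set X) := by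
  let B := Γ(X, U)
  let φ : PrimeSpectrum (B ⧸ q.asIdeal) → X := fun p => hU.fromSpec (PrimeSpectrum.comap (Ideal.Quotient.mk q.asIdeal) p)
  have hφ : Topology.IsInducing φ :=
    hU.fromSpec.isOpenEmbedding.isInducing.comp
      (PrimeSpectrum.isClosedEmbedding_comap_of_surjective _ _ Ideal.Quotient.mk_surjective).isInducing
  have hmem : ∀ p, φ p ∈ closure {hU.fromSpec q} := by
    intro p
    have h1 : q ⤳ PrimeSpectrum.comap (Ideal.Quotient.mk q.asIdeal) p := by
      rw [← PrimeSpectrum.le_iff_specializes]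
      change q.asIdeal ≤ Ideal.comap (Ideal.Quotient.mk q.asIdeal) p.asIdeal
      intro x hx
      rw [Ideal.mem_comap, Ideal.Quotient.eq_zero_iff_mem.2 hx]
      exact zero_mem _
    exact specializes_iff_mem_closure.1 (h1.map hU.fromSpec.continuous)
  let ψ : PrimeSpectrum (B ⧸ q.asIdeal) → (closure {hU.fromSpec q} : Set X) := fun p => ⟨φ p, hmem p⟩
  have hψ : Topology.IsInducing ψ := by
    rw [← Topology.IsInducing.subtypeVal.of_comp_iff (f := ψ)]
    exact hφ
  rw [← PrimeSpectrum.topologicalKrullDim_eq_ringKrullDim]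
  exact hψ.topologicalKrullDim_le

/-- The prime of the generic point of a component is minimal. -/
theorem primeIdealOf_mem_minimalPrimes {Z : Set X} (hZ : Z ∈ irreducibleComponents X) {η : X}
    (hη : IsGenericPoint η Z) (q : PrimeSpectrum Γ(X, U)) (hq : hU.fromSpec q = η) (q' : PrimeSpectrum Γ(X, U))
    (h : q' ≤ q) : q' = q := by
  have h1 : q' ⤳ q := (PrimeSpectrum.le_iff_specializes _ _).1 h
  have h2 : hU.fromSpec q' ⤳ η := hq ▸ h1.map hU.fromSpec.continuous
  have h3 : Z ≤ closure {hU.fromSpec q'} := by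
    rw [← hη.def]
    exact (isClosed_closure.closure_subset_iff).2 (Set.singleton_subset_iff.2 (specializes_iff_mem_closure.1 h2))
  have h4 : closure {hU.fromSpec q'} ≤ Z := hZ.2 isIrreducible_singleton.closure h3
  have h5 : η ⤳ hU.fromSpec q' := by
    rw [specializes_iff_mem_closure, hη.def]
    exact h4 (subset_closure rfl)
  have h6 : hU.fromSpec q' = η := (h2.antisymm h5).eq
  exact hU.fromSpec.isOpenEmbedding.injective (h6.trans hq.symm)

end General

variable {N r : ℕ} {k : Type u} [Field k] {a : Fin r → ℕ} (G : ∀ j : Fin r, Form N k (a j))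

theorem le_dim_component (Z : Set ↥(ciIdeal G).subscheme) (hZ : Z ∈ irreducibleComponents ↥(ciIdeal G).subscheme) :
    ((N - r : ℕ) : WithBot ℕ∞) ≤ topologicalKrullDim ↥Z := by
  have hirr : IsIrreducible Z := hZ.1
  have hcl : IsClosed Z := isClosed_of_mem_irreducibleComponents Z hZ
  obtain ⟨η, hη⟩ := QuasiSober.sober hirr hcl
  have hy : η ∈ ⨆ j : Fin (N + 1), ychart G j := by
    rw [Groth.Agent.Lefpen.H708.Geo.iSup_preimage_chart (yι G)]; trivial
  obtain ⟨j, hj⟩ := Opens.mem_iSup.1 hy
  have hU := isAffineOpen_ychart G j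
  have hj' : η ∈ Set.range hU.fromSpec := by rw [hU.range_fromSpec]; exact hj
  obtain ⟨q, hq⟩ := hj'
  have h1 := ringKrullDim_quotient_le_closure hU q
  rw [hq, hη.def] at h1
  refine le_trans ?_ h1
  have hsurj := toY_surjective G j
  have hq' : q.asIdeal.IsPrime := q.isPrime
  have h4 := comap_mem_minimalPrimes (toY G j) hsurj q.asIdeal (fun q' hq'' hle =>
    congrArg PrimeSpectrum.asIdeal (primeIdealOf_mem_minimalPrimes hU hZ hη q hq ⟨q', hq''⟩ hle))
  rw [ker_toY G j] at h4
  have hp : (q.asIdeal.comap (toY G j)).IsPrime := Ideal.comap_isPrime (toY G j) q.asIdeal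
  refine (le_ringKrullDim_quotient k N r _ (q.asIdeal.comap (toY G j)) h4).trans ?_
  exact (ringKrullDim_quotient_comap (toY G j) hsurj q.asIdeal).ge

end Groth.Agent.Coherent.K51.CIEqui
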