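import Groth.Agent.Coherent.K51.CIReg
import Groth.Agent.Coherent.K51.CIEqui
import Groth.Agent.CurvesB.DimPts
import Mathlib.RingTheory.Regular.Flat
import Mathlib.RingTheory.KrullDimension.Regular

/-!
# Dimension of complete intersections and of their partial intersections

`G_1, …, G_r` forms on `P^N_k`, `IsReg G` (weakly regular in the polynomial ring).

* `isWeaklyRegular_dehom`: the dehomogenized forms are a weakly regular sequence on every chart.
* `dim_le_of_isReg`, `dim_eq_of_isReg`: `dim V(G) = N - r` if `r ≤ N` and `V(G)` is nonempty; all components have this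
  dimension by `CIEqui.le_dim_component`.
* `IsReg.take`: the same for the first `c` forms.
-/

set_option autoImplicit false
universe u

open CategoryTheory AlgebraicGeometry Limits TopologicalSpace Opposite MvPolynomial

namespace Groth.Agent.Coherent.K51.CIDim

open LefPen Groth.Agent.Lefpen.H718.Chart Groth.Agent.Lefpen.H121.ChartLift Groth.Agent.Sga5
open CIReg

variable {N r : ℕ} {k : Type u} [Field k]

section

variable {a : Fin r → ℕ} {G : ∀ j : Fin r, Form N k (a j)}

/-- The first `c` forms of a regular sequence. -/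
theorem IsReg.take (h : IsReg G) {c : ℕ} (hc : c ≤ r) : IsReg (fun j : Fin c => G (j.castLE hc)) := by
  have key : ∀ d : Fin c, ((fun j => (G j).1) '' {j | j < d.castLE hc}) =
      ((fun j : Fin c => (G (j.castLE hc)).1) '' {j | j < d}) := by
    intro d
    ext x
    constructor
    · rintro ⟨j, hj, rfl⟩
      have hj' : j.1 < d.1 := hj
      exact ⟨⟨j.1, hj'.trans d.2⟩, hj', rfl⟩
    · rintro ⟨j, hj, rfl⟩
      exact ⟨j.castLE hc, hj, rfl⟩
  intro d f hf
  rw [← key] at hf ⊢
  exact h _ f hf

theorem image_take (c : Fin r) (F : Fin r → MvPolynomial (Fin N) k) :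
    (F '' {j | j < c}) = Set.range (fun j : Fin c.1 => F (j.castLE c.2.le)) := by
  ext x
  constructor
  · rintro ⟨j, hj, rfl⟩
    exact ⟨⟨j.1, hj⟩, rfl⟩
  · rintro ⟨j, rfl⟩
    exact ⟨j.castLE c.2.le, j.2, rfl⟩

theorem image_take' (c : Fin r) (F : Fin r → MvPolynomial (Fin (N + 1)) k) :
    (F '' {j | j < c}) = Set.range (fun j : Fin c.1 => F (j.castLE c.2.le)) := by
  ext x
  constructor
  · rintro ⟨j, hj, rfl⟩
    exact ⟨⟨j.1, hj⟩, rfl⟩
  · rintro ⟨j, rfl⟩
    exact ⟨j.castLE c.2.le, j.2, rfl⟩

/-- The dehomogenized forms are a weakly regular sequence. -/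
theorem isWeaklyRegular_dehom (h : IsReg G) (i : Fin (N + 1)) :
    RingTheory.Sequence.IsWeaklyRegular (MvPolynomial (Fin N) k)
      (List.ofFn fun j => ProjChart.dehom N k i (G j).1) := by
  refine Groth.Agent.Lefpen.H728.RegSeq.isWeaklyRegular_of_mem_of_mul_mem _ fun c f hf => ?_
  obtain ⟨M, hM⟩ := exists_homogenization i f
  obtain ⟨F, hF, rfl⟩ := hM M le_rfl
  rw [image_take, ← map_mul] at hf
  rw [image_take]
  obtain ⟨R, hR⟩ := exists_pow_mul_mem (fun j : Fin c.1 => (G (j.castLE c.2.le)).1) (fun j => a (j.castLE c.2.le))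
    (fun j => (G (j.castLE c.2.le)).2) i ((G c).2.mul hF) hf
  have h2 : X i ^ R * F ∈ Ideal.span (Set.range (fun j : Fin c.1 => (G (j.castLE c.2.le)).1)) := by
    have h3 := h c (X i ^ R * F)
    rw [image_take'] at h3
    refine h3 ?_
    rw [mul_left_comm]
    exact hR
  have h4 : ProjChart.dehom N k i (X i ^ R * F) ∈
      Ideal.span (Set.range fun j : Fin c.1 => ProjChart.dehom N k i (G (j.castLE c.2.le)).1) := by
    have h5 := Ideal.mem_map_of_mem (ProjChart.dehom N k i) h2
    rw [Ideal.map_span, ← Set.range_comp] at h5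
    exact h5
  rwa [map_mul, map_pow, ProjChart.dehom_X_self, one_pow, one_mul] at h4

end

/-- A weakly regular sequence of length `r` in an ideal of a polynomial ring: the height is at least `r`. -/
theorem le_height_of_isWeaklyRegular {A : Type u} [CommRing A] [IsNoetherianRing A] (rs : List A)
    (h : RingTheory.Sequence.IsWeaklyRegular A rs) (q : Ideal A) [q.IsPrime] (hq : Ideal.ofList rs ≤ q) :
    ((rs.length : ℕ) : ℕ∞) ≤ q.height := by
  have h1 := h.of_isLocalization (Localization.AtPrime q) q.primeCompl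
  have hmem : ∀ x ∈ rs.map (algebraMap A (Localization.AtPrime q)),
      x ∈ IsLocalRing.maximalIdeal (Localization.AtPrime q) := by
    intro x hx
    obtain ⟨y, hy, rfl⟩ := List.mem_map.1 hx
    rw [IsLocalization.AtPrime.to_map_mem_maximal_iff (Localization.AtPrime q) q]
    exact hq (Ideal.subset_span hy)
  have h2 : RingTheory.Sequence.IsRegular (Localization.AtPrime q)
      (rs.map (algebraMap A (Localization.AtPrime q))) := by
    refine ⟨h1, ?_⟩
    rw [smul_eq_mul, Ideal.mul_top]
    intro h3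
    have h4 : Ideal.ofList (rs.map (algebraMap A (Localization.AtPrime q))) ≤
        IsLocalRing.maximalIdeal (Localization.AtPrime q) := Ideal.span_le.2 hmem
    rw [← h3] at h4
    exact (IsLocalRing.maximalIdeal.isMaximal _).ne_top (top_le_iff.1 h4)
  have h3 := ringKrullDim_add_length_eq_ringKrullDim_of_isRegular _ h2
  have hnt : Nontrivial (Localization.AtPrime q ⧸
      Ideal.ofList (rs.map (algebraMap A (Localization.AtPrime q)))) := by
    rw [Ideal.Quotient.nontrivial_iff]
    intro h5
    refine h2.2 ?_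
    rw [smul_eq_mul, Ideal.mul_top, h5]
  have h4 : (0 : WithBot ℕ∞) ≤ ringKrullDim (Localization.AtPrime q ⧸
      Ideal.ofList (rs.map (algebraMap A (Localization.AtPrime q)))) := ringKrullDim_nonneg_of_nontrivial
  rw [IsLocalization.AtPrime.ringKrullDim_eq_height q (Localization.AtPrime q), List.length_map] at h3
  have h5 : ((rs.length : ℕ) : WithBot ℕ∞) ≤ (q.height : WithBot ℕ∞) := by
    rw [← h3]
    exact le_add_of_nonneg_left h4
  exact_mod_cast h5

/-- A weakly regular sequence in a ring of dimension `N` cuts out something of dimension `≤ N - r`. -/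
theorem ringKrullDim_le_of_isWeaklyRegular {A : Type u} [CommRing A] [IsNoetherianRing A] (N : ℕ)
    (hN : ringKrullDim A ≤ N) (rs : List A) (h : RingTheory.Sequence.IsWeaklyRegular A rs) :
    ringKrullDim (A ⧸ Ideal.ofList rs) ≤ ((N - rs.length : ℕ) : WithBot ℕ∞) := by
  refine iSup_le fun s => ?_
  let t : LTSeries (PrimeSpectrum A) := s.map (PrimeSpectrum.comap (Ideal.Quotient.mk (Ideal.ofList rs)))
    (Monotone.strictMono_of_injective (fun p q h => Ideal.comap_mono h)
      (PrimeSpectrum.comap_injective_of_surjective _ Ideal.Quotient.mk_surjective))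
  have h1 : ((rs.length : ℕ) : ℕ∞) ≤ Order.height t.head := by
    rw [← PrimeSpectrum.height_eq_orderHeight]
    refine le_height_of_isWeaklyRegular rs h _ ?_
    intro x hx
    change Ideal.Quotient.mk (Ideal.ofList rs) x ∈ s.head.asIdeal
    rw [Ideal.Quotient.eq_zero_iff_mem.2 hx]
    exact zero_mem _
  obtain ⟨u, hu, hu'⟩ := Order.exists_series_of_le_height _ h1
  have h2 := Order.LTSeries.length_le_krullDim (u.smash t hu)
  have h3 : (((rs.length + s.length : ℕ) : ℕ) : WithBot ℕ∞) ≤ ((N : ℕ) : WithBot ℕ∞) := by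
    refine le_trans (le_of_eq ?_) (h2.trans hN)
    rw [RelSeries.smash_length, hu']
    rfl
  have h4 : rs.length + s.length ≤ N := by exact_mod_cast h3
  exact_mod_cast (by omega)

variable {a : Fin r → ℕ} {G : ∀ j : Fin r, Form N k (a j)}

/-- The charts of a complete intersection have dimension `≤ N - r`. -/
theorem ringKrullDim_chart_le (h : IsReg G) (i : Fin (N + 1)) :
    ringKrullDim Γ(Y G, ychart G i) ≤ ((N - r : ℕ) : WithBot ℕ∞) := by
  have h1 := isWeaklyRegular_dehom h i
  have h2 := ringKrullDim_le_of_isWeaklyRegular N (by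
    rw [MvPolynomial.ringKrullDim_of_isNoetherianRing, ringKrullDim_eq_zero_of_field, zero_add,
      Nat.card_eq_fintype_card, Fintype.card_fin]) _ h1
  rw [CIAlg.ofList_ofFn, List.length_ofFn, ← ker_toY G i,
    ringKrullDim_eq_of_ringEquiv (RingHom.quotientKerEquivOfSurjective (toY_surjective G i))] at h2
  exact h2

theorem dim_le_of_cover {X : Scheme.{u}} {ι : Type} (U : ι → X.Opens) (hU : ⨆ i, U i = ⊤)
    (haff : ∀ i, IsAffineOpen (U i)) (n : WithBot ℕ∞) (h : ∀ i, ringKrullDim Γ(X, U i) ≤ n) :
    topologicalKrullDim X ≤ n := by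
  rw [Groth.Agent.CurvesB.DimPts.krullDim_eq, Order.krullDim_eq_iSup_coheight]
  refine iSup_le fun x => ?_
  have hx : x ∈ ⨆ i, U i := by rw [hU]; trivial
  obtain ⟨i, hi⟩ := Opens.mem_iSup.1 hx
  let y : ((U i).toScheme : Scheme.{u}) := ⟨x, hi⟩
  have h1 : Order.coheight ((U i).ι y) = Order.coheight y := coheight_eq_of_isOpenImmersion (U i).ι
  have h2 : (Order.coheight ((U i).ι y) : WithBot ℕ∞) ≤ n := by
    rw [h1]
    refine (Order.coheight_le_krullDim y).trans ?_
    rw [← Groth.Agent.CurvesB.DimPts.krullDim_eq]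
    exact (UnramA.SmoothFibreDim.topologicalKrullDim_affineOpen (haff i)).trans_le (h i)
  exact h2

/-- Dimension of a complete intersection. -/
theorem dim_le_of_isReg (h : IsReg G) :
    topologicalKrullDim ↥(ciIdeal G).subscheme ≤ ((N - r : ℕ) : WithBot ℕ∞) :=
  dim_le_of_cover (fun j : Fin (N + 1) => ychart G j)
    (Groth.Agent.Lefpen.H708.Geo.iSup_preimage_chart (yι G)) (isAffineOpen_ychart G) _
    (ringKrullDim_chart_le h)

/-- A nonempty complete intersection has dimension `N - r`. -/
theorem dim_eq_of_isReg (h : IsReg G) [Nonempty (ciIdeal G).subscheme] :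
    topologicalKrullDim ↥(ciIdeal G).subscheme = ((N - r : ℕ) : WithBot ℕ∞) := by
  refine le_antisymm (dim_le_of_isReg h) ?_
  obtain ⟨x⟩ := (inferInstance : Nonempty (ciIdeal G).subscheme)
  refine (CIEqui.le_dim_component G (irreducibleComponent x)
    (irreducibleComponent_mem_irreducibleComponents x)).trans ?_
  exact Topology.IsInducing.subtypeVal.topologicalKrullDim_le

theorem nonempty_of_dim {X : Scheme.{u}} {n : ℕ} (h : topologicalKrullDim X = (n : WithBot ℕ∞)) : Nonempty X := by
  by_contra h'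
  rw [not_nonempty_iff] at h'
  have h3 : IsEmpty (TopologicalSpace.IrreducibleCloseds X) :=
    ⟨fun Z => IsEmpty.false (Z.isIrreducible.nonempty.some)⟩
  have h2 : topologicalKrullDim X = ⊥ := Order.krullDim_eq_bot
  rw [h] at h2
  exact WithBot.coe_ne_bot h2

variable (G) in
theorem ciIdeal_take_le {c : ℕ} (hc : c ≤ r) : ciIdeal (fun j : Fin c => G (j.castLE hc)) ≤ ciIdeal G :=
  iSup_le fun j => le_iSup (fun j => hypIdeal (G j)) (j.castLE hc)

/-- If `dim V(G_1, …, G_r) = N - r`, `r ≤ N`, then `dim V(G_1, …, G_c) = N - c` for all `c ≤ r`. -/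
theorem dim_take (G : ∀ j : Fin r, Form N k (a j)) (hr : r ≤ N) (ha : ∀ j, 1 ≤ a j)
    (hdim : topologicalKrullDim ↥(ciIdeal G).subscheme = ((N - r : ℕ) : WithBot ℕ∞)) {c : ℕ} (hc : c ≤ r) :
    topologicalKrullDim ↥(ciIdeal (fun j : Fin c => G (j.castLE hc))).subscheme =
      ((N - c : ℕ) : WithBot ℕ∞) := by
  have hne := nonempty_of_dim hdim
  have h1 : Nonempty (ciIdeal (fun j : Fin c => G (j.castLE hc))).subscheme := by
    obtain ⟨x⟩ := hne
    exact ⟨Scheme.IdealSheafData.inclusion (ciIdeal_take_le G hc) x⟩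
  exact dim_eq_of_isReg (IsReg.take (isReg_of_dim G hr ha hdim.le) hc)

end Groth.Agent.Coherent.K51.CIDim
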