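import Groth.Agent.Coherent.K51.CIReg
import Groth.Agent.S14448
import Groth.Agent.FormalA.ThickSurj
import Groth.Agent.Flat2F.HHSeq
import Groth.Agent.CurvesC.DegIso
import Groth.Agent.Ega3B.PullTensor
import Groth.Agent.Ega2.TwistInv
import Groth.Agent.Ega3B.ProjFrame
import Groth.Agent.S0844
import Groth.Agent.VarietyB.DegCartier

/-!
# Cohomology of the twists of a complete intersection in projective space

`Good f d` for `f : X ⟶ P^N`: `H^p(X, f^* O(i)) = 0` for `0 < p < d` and all `i`, and, if `1 ≤ d`,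
`H^0(P, O(i)) → H^0(X, f^* O(i))` is surjective.

`good_ci`: `V(G_1, …, G_r) → P^N` is `Good (N - r)` for a regular sequence of forms, `r ≤ N`.
-/

set_option autoImplicit false
universe u

open CategoryTheory AlgebraicGeometry Limits TopologicalSpace Opposite MvPolynomial

namespace Groth.Agent.Coherent.K51.CIGood

open LefPen Groth.Agent.Lefpen.H718.Chart Groth.Agent.Lefpen.H121.ChartLift Groth.Agent.Sga5

variable {X Y Z : Scheme.{u}}

theorem surjective_unit_comp (f : X ⟶ Y) (g : Y ⟶ Z) (M : Z.Modules)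
    (hg : Function.Surjective (((Scheme.Modules.pullbackPushforwardAdjunction g).unit.app M).app ⊤))
    (hf : Function.Surjective (((Scheme.Modules.pullbackPushforwardAdjunction f).unit.app
      ((Scheme.Modules.pullback g).obj M)).app ⊤)) :
    Function.Surjective (((Scheme.Modules.pullbackPushforwardAdjunction (f ≫ g)).unit.app M).app ⊤) := by
  rw [S14448.unit_comp]
  have h1 : Function.Surjective (((Scheme.Modules.pullbackComp f g).hom.app M).app
      ((f ≫ g) ⁻¹ᵁ (⊤ : Z.Opens))) := by
    have := (CategoryTheory.ConcreteCategory.bijective_of_isIso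
      (((Scheme.Modules.pullbackComp f g).hom.app M).app ((f ≫ g) ⁻¹ᵁ (⊤ : Z.Opens))))
    exact this.2
  intro y
  obtain ⟨y1, hy1⟩ := h1 y
  obtain ⟨y2, hy2⟩ := hf y1
  obtain ⟨y3, hy3⟩ := hg y2
  refine ⟨y3, ?_⟩
  rw [← hy1, ← hy2, ← hy3]
  rfl

theorem surjective_unit_iso (e : X ≅ Y) (M : Y.Modules) :
    Function.Surjective (((Scheme.Modules.pullbackPushforwardAdjunction e.hom).unit.app M).app ⊤) := by
  have := CurvesC.DegIso.isEquivalence_push e
  have : (Scheme.Modules.pullback e.hom).IsEquivalence :=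
    (Scheme.Modules.pullbackPushforwardAdjunction e.hom).isEquivalence_left_of_isEquivalence_right
  have := (CategoryTheory.ConcreteCategory.bijective_of_isIso
      (((Scheme.Modules.pullbackPushforwardAdjunction e.hom).unit.app M).app ⊤))
  exact this.2

/-- Cohomology along an isomorphism of schemes. -/
theorem subsingleton_HH_pullback_iso (e : X ≅ Y) (M : Y.Modules) (p : ℕ) (h : Subsingleton (Coh.HH Y M p)) :
    Subsingleton (Coh.HH X ((Scheme.Modules.pullback e.hom).obj M) p) := by
  have h1 := Flat2F.HHSeq.subsingleton_HH_of_iso (CurvesC.DegIso.unitIso e M) p h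
  exact (CurvesC.CurveNum.hhPush e.hom ((Scheme.Modules.pullback e.hom).obj M) p).toEquiv.subsingleton

section

variable {N : ℕ} {k : Type u} [Field k]

/-- `H^p(X, f^* O(i)) = 0` for `0 < p < d`, and the sections of `f^* O(i)` come from `P^N` if `1 ≤ d`. -/
structure Good (f : X ⟶ CohB1.ProjSpace N k) (d : ℕ) : Prop where
  van : ∀ (i : ℤ) (p : ℕ), 0 < p → p < d →
    Subsingleton (Coh.HH X ((Scheme.Modules.pullback f).obj (Twist.twistProjSpace N k i)) p)
  surj : 1 ≤ d → ∀ i : ℤ, Function.Surjective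
    (((Scheme.Modules.pullbackPushforwardAdjunction f).unit.app (Twist.twistProjSpace N k i)).app ⊤)

theorem Good.iso_comp {f : Y ⟶ CohB1.ProjSpace N k} {d : ℕ} (h : Good f d) (e : X ≅ Y) : Good (e.hom ≫ f) d where
  van i p hp hd := by
    have h1 := subsingleton_HH_pullback_iso e _ p (h.van i p hp hd)
    exact Flat2F.HHSeq.subsingleton_HH_of_iso ((Scheme.Modules.pullbackComp e.hom f).app _) p h1
  surj hd i := surjective_unit_comp e.hom f _ (h.surj hd i) (surjective_unit_iso e _)

theorem good_iso (e : X ≅ CohB1.ProjSpace N k) : Good e.hom N where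
  van i p hp hd := by
    refine subsingleton_HH_pullback_iso e _ p ?_
    exact S0844.result k N i p (by omega) (by omega)
  surj hd i := surjective_unit_iso e _

end

/-! ### The exact sequence of a closed subscheme -/

theorem qmap_eq (J : Y.IdealSheafData) : FormalA.ThickSurj.qmap J.subschemeι = ClSub.toSubscheme J := rfl

/-- `0 → I → O_Y → i_* O_Z → 0`. -/
theorem shortExact_ideal (J : Y.IdealSheafData) : ∃ w : ClSub.idealModι J ≫ FormalA.ThickSurj.qmap J.subschemeι = 0,
    (ShortComplex.mk (ClSub.idealModι J) (FormalA.ThickSurj.qmap J.subschemeι) w).ShortExact := by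
  rw [qmap_eq]
  exact ⟨kernel.condition _, VarietyB.DegCartier.idealSeq_shortExact J⟩

theorem subsingleton_closed (J : Y.IdealSheafData) {M : Y.Modules} (hM : PicF.IsInvertible M) (p : ℕ)
    (h1 : Subsingleton (Coh.HH Y M p))
    (h2 : Subsingleton (Coh.HH Y (CohB1.tensorMod M (ClSub.idealMod J)) (p + 1))) :
    Subsingleton (Coh.HH J.subscheme ((Scheme.Modules.pullback J.subschemeι).obj M) p) := by
  obtain ⟨w, hw⟩ := shortExact_ideal J
  have hM' := VarietyB.TensCoh.HasBases.of_isFinLocFree (FormalA.ThickSurj.isFinLocFree_of_isInvertible hM)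
  have h3 := Sga67.TensorOps.tensor_shortExact (FormalA.ThickSurj.isFinLocFree_of_isInvertible hM) hw
  have h4 := Flat2F.HHSeq.subsingleton_HH_right h3 p
    (Flat2F.HHSeq.subsingleton_HH_of_iso (Ega2.Tens.runit M).symm p h1) h2
  have h5 := Flat2F.HHSeq.subsingleton_HH_of_iso (VarietyB.ProjForm.projIsoUnit J.subschemeι hM') p h4
  exact (CurvesC.CurveNum.hhPush J.subschemeι _ p).toEquiv.subsingleton

theorem surjective_closed (J : Y.IdealSheafData) {M : Y.Modules} (hM : PicF.IsInvertible M)
    (h2 : Subsingleton (Coh.HH Y (CohB1.tensorMod M (ClSub.idealMod J)) 1)) :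
    Function.Surjective (((Scheme.Modules.pullbackPushforwardAdjunction J.subschemeι).unit.app M).app ⊤) := by
  obtain ⟨w, hw⟩ := shortExact_ideal J
  exact FormalA.ThickSurj.surjective_unit_of_H1 J.subschemeι M hM _ w hw h2

section

variable {N : ℕ} {k : Type u} [Field k]

theorem nonempty_mul (i j : ℤ) :
    Nonempty (CohB1.tensorMod (Twist.twistProjSpace N k i) (Twist.twistProjSpace N k j) ≅
      Twist.twistProjSpace N k (i + j)) := by
  have h := Ega3B.ProjFrame.coveredByOne N k
  have h1 := Ega2.TwistInv.isIso_mulHom h (rfl : i + j = i + j)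
  exact ⟨@asIso _ _ _ _ (Ega2.TwistMul.mulHom (CohB1.polyGrading N k) (rfl : i + j = i + j)) h1⟩

theorem nonempty_tensor_ideal (f : Y ⟶ CohB1.ProjSpace N k) (J : Y.IdealSheafData) {b : ℕ}
    (hJ : Nonempty (ClSub.idealMod J ≅ (Scheme.Modules.pullback f).obj (Twist.twistProjSpace N k (-(b : ℤ)))))
    (i : ℤ) : Nonempty (CohB1.tensorMod ((Scheme.Modules.pullback f).obj (Twist.twistProjSpace N k i))
      (ClSub.idealMod J) ≅ (Scheme.Modules.pullback f).obj (Twist.twistProjSpace N k (i - b))) := by
  obtain ⟨e⟩ := hJ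
  obtain ⟨e'⟩ := nonempty_mul (N := N) (k := k) i (-(b : ℤ))
  refine ⟨Ega2.Tens.mapTIso (Iso.refl _) e ≪≫ (Ega3B.PullTensor.pullTensorIso f
    (Ega3B.ProjFrame.isInvertible_twistProjSpace N k i)
    (Ega3B.ProjFrame.isInvertible_twistProjSpace N k (-(b : ℤ)))).symm ≪≫
    (Scheme.Modules.pullback f).mapIso e'⟩

/-- The induction step. -/
theorem Good.step {f : Y ⟶ CohB1.ProjSpace N k} {d : ℕ} (h : Good f (d + 1)) (J : Y.IdealSheafData) {b : ℕ}
    (hJ : Nonempty (ClSub.idealMod J ≅ (Scheme.Modules.pullback f).obj (Twist.twistProjSpace N k (-(b : ℤ))))) :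
    Good (J.subschemeι ≫ f) d where
  van i p hp hd := by
    obtain ⟨e⟩ := nonempty_tensor_ideal f J hJ i
    have h1 := subsingleton_closed J (M := (Scheme.Modules.pullback f).obj (Twist.twistProjSpace N k i))
      (Fdesc.LocGen.isInvertible_pullback f (Ega3B.ProjFrame.isInvertible_twistProjSpace N k i)) p
      (h.van i p hp (by omega))
      (Flat2F.HHSeq.subsingleton_HH_of_iso e.symm (p + 1) (h.van (i - b) (p + 1) (by omega) (by omega)))
    exact Flat2F.HHSeq.subsingleton_HH_of_iso ((Scheme.Modules.pullbackComp J.subschemeι f).app _) p h1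
  surj hd i := by
    obtain ⟨e⟩ := nonempty_tensor_ideal f J hJ i
    refine surjective_unit_comp J.subschemeι f _ (h.surj (by omega) i) (surjective_closed J
      (Fdesc.LocGen.isInvertible_pullback f (Ega3B.ProjFrame.isInvertible_twistProjSpace N k i)) ?_)
    exact Flat2F.HHSeq.subsingleton_HH_of_iso e.symm 1 (h.van (i - b) 1 (by omega) (by omega))

theorem good_zero {a : Fin 0 → ℕ} (G : ∀ j : Fin 0, Form N k (a j)) : Good (ciIdeal G).subschemeι N := by
  have h1 : ciIdeal G = ⊥ := by
    rw [ciIdeal, iSup_of_empty]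
  have h2 : IsIso (ciIdeal G).subschemeι := by
    rw [h1]
    infer_instance
  exact good_iso (asIso (ciIdeal G).subschemeι)

/-- Complete intersections are good. -/
theorem good_ci : ∀ (r : ℕ) (_ : r ≤ N) (a : Fin r → ℕ) (G : ∀ j : Fin r, Form N k (a j)), CIReg.IsReg G →
    Good (ciIdeal G).subschemeι (N - r)
  | 0, _, _, G, _ => good_zero G
  | r + 1, hr, a, G, hG => by
    have ih := good_ci r (by omega) _ (fun j : Fin r => G j.castSucc) hG.castSucc
    have h1 := Good.step (d := N - (r + 1)) (by
        have : N - (r + 1) + 1 = N - r := by omega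
        rw [this]
        exact ih)
      ((hypIdeal (G (Fin.last r))).comap (yι (fun j : Fin r => G j.castSucc)))
      (CIStep.nonempty_iso (fun j : Fin r => G j.castSucc) (G (Fin.last r)) hG.fn_mem_nonZeroDivisors)
    obtain ⟨e, he⟩ := CIReg.exists_ciIso G
    rw [← he]
    exact h1.iso_comp e

end

end Groth.Agent.Coherent.K51.CIGood
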