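import Groth.Agent.Coherent.K51.CIStep
import Groth.Agent.Ega4B.DimFT2
import Groth.Agent.Lefpen.H718.Reg
import Mathlib.RingTheory.GradedAlgebra.Radical

/-!
# The height of the homogeneous ideal of a complete intersection in projective space

`le_height`: `G_1, …, G_r` forms in `N + 1` variables, `r ≤ N`, with `dim V(G) = N - r`: the ideal `(G_1, …, G_r)` of the
polynomial ring has height at least `r`.
-/

set_option autoImplicit false
universe u

open CategoryTheory AlgebraicGeometry Limits TopologicalSpace Opposite MvPolynomial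

namespace Groth.Agent.Coherent.K51.CIHeight

open LefPen Groth.Agent.Lefpen.H718.Chart Groth.Agent.Lefpen.H121.ChartLift Groth.Agent.Sga5

attribute [local instance] MvPolynomial.gradedAlgebra

variable {N r : ℕ} {k : Type u} [Field k]

theorem dehom_surjective (j : Fin (N + 1)) : Function.Surjective (ProjChart.dehom N k j) := fun q => by
  obtain ⟨M, hM⟩ := exists_homogenization j q
  obtain ⟨F, -, hF⟩ := hM M le_rfl
  exact ⟨F, hF⟩

/-- Dehomogenization and homogeneous primes. -/
theorem mem_of_dehom_mem (P : Ideal (MvPolynomial (Fin (N + 1)) k)) [P.IsPrime]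
    (hP : P.IsHomogeneous (homogeneousSubmodule (Fin (N + 1)) k)) (j : Fin (N + 1)) (hj : X j ∉ P) {D : ℕ}
    {F : MvPolynomial (Fin (N + 1)) k} (hF : F.IsHomogeneous D)
    (h : ProjChart.dehom N k j F ∈ P.map (ProjChart.dehom N k j)) : F ∈ P := by
  obtain ⟨p, hp, hpF⟩ := (Ideal.mem_map_iff_of_surjective _ (dehom_surjective j)).1 h
  let M : ℕ := p.totalDegree + 1
  have h1 : X j ^ M * F = ∑ d ∈ Finset.range (p.totalDegree + 1), X j ^ (M + D - d) * homogeneousComponent d p := by
    apply dehom_injOn j (D := M + D)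
    · have := ((isHomogeneous_X k j).pow M).mul hF
      rwa [one_mul] at this
    · refine IsHomogeneous.sum _ _ _ fun d hd => ?_
      have hd' := Finset.mem_range.1 hd
      have := ((isHomogeneous_X k j).pow (M + D - d)).mul (homogeneousComponent_isHomogeneous d p)
      rwa [one_mul, Nat.sub_add_cancel (by omega)] at this
    · rw [map_mul, map_pow, ProjChart.dehom_X_self, one_pow, one_mul, ← hpF, map_sum]
      conv_lhs => rw [← sum_homogeneousComponent p, map_sum]
      refine Finset.sum_congr rfl fun d _ => ?_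
      rw [map_mul, map_pow, ProjChart.dehom_X_self, one_pow, one_mul]
  have h2 : X j ^ M * F ∈ P := by
    rw [h1]
    refine sum_mem fun d _ => Ideal.mul_mem_left _ _ ?_
    exact homogeneousComponent_mem_of_mem hP hp d
  exact ((Ideal.IsPrime.mem_or_mem inferInstance h2).resolve_left fun h =>
    hj (Ideal.IsPrime.mem_of_pow_mem inferInstance _ h))

theorem isPrime_map_dehom (P : Ideal (MvPolynomial (Fin (N + 1)) k)) [P.IsPrime]
    (hP : P.IsHomogeneous (homogeneousSubmodule (Fin (N + 1)) k)) (j : Fin (N + 1)) (hj : X j ∉ P) :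
    (P.map (ProjChart.dehom N k j)).IsPrime := by
  refine ⟨fun h => ?_, fun {f g} hfg => ?_⟩
  · have h1 : (1 : MvPolynomial (Fin (N + 1)) k) ∈ P :=
      mem_of_dehom_mem P hP j hj (isHomogeneous_one (Fin (N + 1)) k) (by rw [h]; trivial)
    exact hj (by simpa using P.mul_mem_left (X j) h1)
  · obtain ⟨M₁, h1⟩ := exists_homogenization j f
    obtain ⟨M₂, h2⟩ := exists_homogenization j g
    obtain ⟨F, hF, rfl⟩ := h1 M₁ le_rfl
    obtain ⟨H, hH, rfl⟩ := h2 M₂ le_rfl
    rw [← map_mul] at hfg
    rcases Ideal.IsPrime.mem_or_mem inferInstance (mem_of_dehom_mem P hP j hj (hF.mul hH) hfg) with h | h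
    · exact Or.inl (Ideal.mem_map_of_mem _ h)
    · exact Or.inr (Ideal.mem_map_of_mem _ h)

/-- The homogenization of a prime. -/
noncomputable def hom (j : Fin (N + 1)) (Q : PrimeSpectrum (MvPolynomial (Fin N) k)) :
    PrimeSpectrum (MvPolynomial (Fin (N + 1)) k) :=
  ⟨((Q.asIdeal.comap (ProjChart.dehom N k j)).homogeneousCore
    (homogeneousSubmodule (Fin (N + 1)) k)).toIdeal, Ideal.IsPrime.homogeneousCore inferInstance⟩

theorem mem_hom_iff (j : Fin (N + 1)) (Q : PrimeSpectrum (MvPolynomial (Fin N) k)) {D : ℕ}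
    {F : MvPolynomial (Fin (N + 1)) k} (hF : F.IsHomogeneous D) :
    F ∈ (hom j Q).asIdeal ↔ ProjChart.dehom N k j F ∈ Q.asIdeal := by
  constructor
  · intro h
    exact Ideal.toIdeal_homogeneousCore_le (homogeneousSubmodule (Fin (N + 1)) k)
      (Q.asIdeal.comap (ProjChart.dehom N k j)) h
  · intro h
    exact Ideal.mem_homogeneousCore_of_homogeneous_of_mem ⟨D, hF⟩ h

theorem hom_strictMono (j : Fin (N + 1)) : StrictMono (hom (N := N) (k := k) j) := by
  refine Monotone.strictMono_of_injective (fun Q Q' h => ?_) (fun Q Q' h => ?_)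
  · exact Ideal.homogeneousCore_mono _ (Ideal.comap_mono h)
  · have key : ∀ Q Q' : PrimeSpectrum (MvPolynomial (Fin N) k), hom j Q = hom j Q' →
        Q.asIdeal ≤ Q'.asIdeal := by
      intro Q Q' h f hf
      obtain ⟨M, hM⟩ := exists_homogenization j f
      obtain ⟨F, hF, rfl⟩ := hM M le_rfl
      rw [← mem_hom_iff j Q hF, h, mem_hom_iff j Q' hF] at hf
      exact hf
    exact PrimeSpectrum.ext (le_antisymm (key _ _ h) (key _ _ h.symm))

theorem height_le_height_hom (j : Fin (N + 1)) (Q : PrimeSpectrum (MvPolynomial (Fin N) k)) :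
    Q.asIdeal.height ≤ (hom j Q).asIdeal.height := by
  rw [PrimeSpectrum.height_eq_orderHeight, PrimeSpectrum.height_eq_orderHeight]
  exact Order.height_le_height_apply_of_strictMono _ (hom_strictMono j) _

/-- The height of a homogeneous prime is at least that of its dehomogenization. -/
theorem height_map_dehom_le (P : Ideal (MvPolynomial (Fin (N + 1)) k)) [P.IsPrime]
    (hP : P.IsHomogeneous (homogeneousSubmodule (Fin (N + 1)) k)) (j : Fin (N + 1)) (hj : X j ∉ P) :
    (P.map (ProjChart.dehom N k j)).height ≤ P.height := by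
  let Q : PrimeSpectrum (MvPolynomial (Fin N) k) := ⟨P.map (ProjChart.dehom N k j), isPrime_map_dehom P hP j hj⟩
  refine (height_le_height_hom j Q).trans (Ideal.height_mono fun F hF => ?_)
  have hhom : (hom j Q).asIdeal.IsHomogeneous (homogeneousSubmodule (Fin (N + 1)) k) :=
    (Ideal.homogeneousCore _ _).isHomogeneous
  rw [mem_iff_homogeneousComponent_mem hP]
  intro e
  have h1 := homogeneousComponent_mem_of_mem hhom hF e
  rw [mem_hom_iff j Q (homogeneousComponent_isHomogeneous e F)] at h1
  exact mem_of_dehom_mem P hP j hj (homogeneousComponent_isHomogeneous e F) h1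

variable {a : Fin r → ℕ} (G : ∀ j : Fin r, Form N k (a j))

theorem ringKrullDim_quotient_le (i : Fin (N + 1)) :
    ringKrullDim (MvPolynomial (Fin N) k ⧸ Ideal.span (Set.range fun j => ProjChart.dehom N k i (G j).1)) ≤
      topologicalKrullDim ↥(ciIdeal G).subscheme := by
  rw [← ker_toY G i, ringKrullDim_eq_of_ringEquiv (RingHom.quotientKerEquivOfSurjective (toY_surjective G i)),
    ← UnramA.SmoothFibreDim.topologicalKrullDim_affineOpen (isAffineOpen_ychart G i)]
  exact Topology.IsInducing.topologicalKrullDim_le (Topology.IsInducing.subtypeVal)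

/-- The height of a prime of a chart containing the equations of a complete intersection. -/
theorem le_height_of_dim (hr : r ≤ N)
    (hdim : topologicalKrullDim ↥(ciIdeal G).subscheme ≤ ((N - r : ℕ) : WithBot ℕ∞)) (j : Fin (N + 1))
    (Q : Ideal (MvPolynomial (Fin N) k)) [Q.IsPrime]
    (hQ : Ideal.span (Set.range fun l => ProjChart.dehom N k j (G l).1) ≤ Q) : (r : ℕ∞) ≤ Q.height := by
  have h1 := Groth.Agent.Ega4B.DimFT2.height_add_dim k (MvPolynomial (Fin N) k) Q
  have h0 := ringKrullDim_quotient_le G j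
  have h0' := ringKrullDim_le_of_surjective (Ideal.Quotient.factor hQ) (Ideal.Quotient.factor_surjective hQ)
  have h2 : ringKrullDim (MvPolynomial (Fin N) k ⧸ Q) ≤ ((N - r : ℕ) : WithBot ℕ∞) :=
    h0'.trans (h0.trans hdim)
  rw [MvPolynomial.ringKrullDim_of_isNoetherianRing, ringKrullDim_eq_zero_of_field, zero_add] at h1
  by_contra hlt
  rw [not_le] at hlt
  have h3 : ((N : ℕ) : WithBot ℕ∞) ≤ (Q.height : WithBot ℕ∞) + ((N - r : ℕ) : WithBot ℕ∞) := by
    rw [Nat.card_eq_fintype_card, Fintype.card_fin] at h1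
    rw [← h1]
    exact add_le_add_right h2 _
  obtain ⟨h, hh⟩ := ENat.ne_top_iff_exists.mp (ne_top_of_lt hlt)
  rw [← hh] at hlt h3
  have h4 : h < r := by exact_mod_cast hlt
  have h3' : ((N : ℕ∞) : WithBot ℕ∞) ≤ (((h : ℕ∞) + ((N - r : ℕ) : ℕ∞) : ℕ∞) : WithBot ℕ∞) := h3
  have h5 : N ≤ h + (N - r) := by exact_mod_cast WithBot.coe_le_coe.1 h3'
  omega

/-- The ideal of a complete intersection in projective space has height at least the number of equations. -/
theorem le_height (hr : r ≤ N)
    (hdim : topologicalKrullDim ↥(ciIdeal G).subscheme ≤ ((N - r : ℕ) : WithBot ℕ∞)) :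
    (r : ℕ∞) ≤ (Ideal.span (Set.range fun l => (G l).1)).height := by
  rw [Ideal.height_eq_inf_minimalPrimes]
  refine le_iInf₂ fun P hP => ?_
  have hPp : P.IsPrime := hP.1.1
  let P' := (P.homogeneousCore (homogeneousSubmodule (Fin (N + 1)) k)).toIdeal
  have hP'p : P'.IsPrime := Ideal.IsPrime.homogeneousCore hPp
  have hP'P : P' ≤ P := Ideal.toIdeal_homogeneousCore_le _ _
  have hP'h : P'.IsHomogeneous (homogeneousSubmodule (Fin (N + 1)) k) :=
    (P.homogeneousCore (homogeneousSubmodule (Fin (N + 1)) k)).isHomogeneous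
  have hG : ∀ l, (G l).1 ∈ P' := fun l =>
    Ideal.mem_homogeneousCore_of_homogeneous_of_mem ⟨a l, (G l).2⟩ (hP.1.2 (Ideal.subset_span ⟨l, rfl⟩))
  refine le_trans ?_ (Ideal.height_mono hP'P)
  by_cases hX : ∀ j, X j ∈ P'
  · refine le_trans ?_ (Groth.Agent.Lefpen.H718.Reg.le_height_irrelevant P' hX)
    exact_mod_cast (by omega)
  · push Not at hX
    obtain ⟨j, hj⟩ := hX
    have := isPrime_map_dehom P' hP'h j hj
    refine le_trans ?_ (height_map_dehom_le P' hP'h j hj)
    refine le_height_of_dim G hr hdim j _ ?_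
    rw [Ideal.span_le]
    rintro _ ⟨l, rfl⟩
    exact Ideal.mem_map_of_mem _ (hG l)

end Groth.Agent.Coherent.K51.CIHeight
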