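import Groth.Agent.Coherent.K51.CIHeight
import Groth.Agent.VarietyB.ClosedInter

/-!
# Regular sequences of forms and the charts of projective space

* `IsReg G`: the forms `G_1, …, G_r` are a weakly regular sequence in the polynomial ring.
* `isReg_of_dim`: this holds if `dim V(G) = N - r`, `r ≤ N`, and the degrees are positive.
* `fn_mem_nonZeroDivisors`: the last form of a regular sequence is a nonzerodivisor on the charts of the common
  zero scheme of the previous ones.
* `ciIso`: `V(G_1, …, G_{r+1})` is the closed subscheme of `V(G_1, …, G_r)` cut out by `G_{r+1}`.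
-/

set_option autoImplicit false
universe u

open CategoryTheory AlgebraicGeometry Limits TopologicalSpace Opposite MvPolynomial

namespace Groth.Agent.Coherent.K51.CIReg

open LefPen Groth.Agent.Lefpen.H718.Chart Groth.Agent.Lefpen.H121.ChartLift Groth.Agent.Sga5

variable {N r : ℕ} {k : Type u} [Field k]

/-- A weakly regular sequence of forms. -/
def IsReg {r : ℕ} {a : Fin r → ℕ} (G : ∀ j : Fin r, Form N k (a j)) : Prop :=
  ∀ (c : Fin r) (f : MvPolynomial (Fin (N + 1)) k),
    (G c).1 * f ∈ Ideal.span ((fun j => (G j).1) '' {j | j < c}) → f ∈ Ideal.span ((fun j => (G j).1) '' {j | j < c})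

theorem isReg_of_dim {a : Fin r → ℕ} (G : ∀ j : Fin r, Form N k (a j)) (hr : r ≤ N) (ha : ∀ j, 1 ≤ a j)
    (hdim : topologicalKrullDim ↥(ciIdeal G).subscheme ≤ ((N - r : ℕ) : WithBot ℕ∞)) : IsReg G := fun c f hf =>
  Groth.Agent.Lefpen.H728.RegSeq.mem_of_mul_mem (fun j => (G j).1) a ha (fun j => (G j).2)
    (CIHeight.le_height G hr hdim) c f hf

section Succ

variable {a : Fin (r + 1) → ℕ} (G : ∀ j : Fin (r + 1), Form N k (a j))

theorem image_castSucc (c : Fin r) :
    ((fun j => (G j).1) '' {j | j < c.castSucc}) = ((fun j : Fin r => (G j.castSucc).1) '' {j | j < c}) := by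
  ext x
  constructor
  · rintro ⟨j, hj, rfl⟩
    have hj' : j.1 < c.1 := hj
    exact ⟨⟨j.1, hj'.trans c.2⟩, hj', rfl⟩
  · rintro ⟨j, hj, rfl⟩
    exact ⟨j.castSucc, hj, rfl⟩

theorem image_last :
    ((fun j => (G j).1) '' {j | j < Fin.last r}) = Set.range (fun j : Fin r => (G j.castSucc).1) := by
  ext x
  constructor
  · rintro ⟨j, hj, rfl⟩
    have hj' : j.1 < r := hj
    exact ⟨⟨j.1, hj'⟩, rfl⟩
  · rintro ⟨j, rfl⟩
    exact ⟨j.castSucc, j.2, rfl⟩

variable {G}

theorem IsReg.castSucc (h : IsReg G) : IsReg (fun j : Fin r => G j.castSucc) := fun c f hf => by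
  have := h c.castSucc f
  rw [image_castSucc] at this
  exact this hf

theorem IsReg.last (h : IsReg G) (f : MvPolynomial (Fin (N + 1)) k)
    (hf : (G (Fin.last r)).1 * f ∈ Ideal.span (Set.range (fun j : Fin r => (G j.castSucc).1))) :
    f ∈ Ideal.span (Set.range (fun j : Fin r => (G j.castSucc).1)) := by
  have := h (Fin.last r) f
  rw [image_last] at this
  exact this hf

/-- The last form of a regular sequence is a nonzerodivisor on the charts. -/
theorem IsReg.fn_mem_nonZeroDivisors (h : IsReg G) (i : Fin (N + 1)) :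
    fn (fun j : Fin r => G j.castSucc) i (G (Fin.last r)).1 ∈
      nonZeroDivisors Γ(Y (fun j : Fin r => G j.castSucc), ychart (fun j : Fin r => G j.castSucc) i) := by
  rw [mem_nonZeroDivisors_iff_right]
  intro z hz
  obtain ⟨p, rfl⟩ := toY_surjective (fun j : Fin r => G j.castSucc) i z
  obtain ⟨M, hM⟩ := exists_homogenization i p
  obtain ⟨F, hF, rfl⟩ := hM M le_rfl
  have h1 : ProjChart.dehom N k i ((G (Fin.last r)).1 * F) ∈
      RingHom.ker (toY (fun j : Fin r => G j.castSucc) i) := by
    rw [RingHom.mem_ker, map_mul, map_mul, mul_comm]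
    exact hz
  rw [ker_toY] at h1
  obtain ⟨R, hR⟩ := exists_pow_mul_mem (fun j : Fin r => (G j.castSucc).1) (fun j => a j.castSucc)
    (fun j => (G j.castSucc).2) i ((G (Fin.last r)).2.mul hF) h1
  have h2 : X i ^ R * F ∈ Ideal.span (Set.range (fun j : Fin r => (G j.castSucc).1)) := by
    refine h.last _ ?_
    rw [mul_left_comm]
    exact hR
  have h3 := fn_eq_zero (fun j : Fin r => G j.castSucc) i h2
  rw [map_mul, map_pow, fn_X_self, one_pow, one_mul] at h3
  exact h3

variable (G)

theorem ciIdeal_succ : ciIdeal G = hypIdeal (G (Fin.last r)) ⊔ ciIdeal (fun j : Fin r => G j.castSucc) := by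
  apply le_antisymm
  · refine iSup_le fun j => ?_
    refine Fin.lastCases ?_ (fun j => ?_) j
    · exact le_sup_left
    · exact le_sup_of_le_right (le_iSup (fun j : Fin r => hypIdeal (G j.castSucc)) j)
  · refine sup_le (le_iSup (fun j => hypIdeal (G j)) (Fin.last r)) (iSup_le fun j => ?_)
    exact le_iSup (fun j => hypIdeal (G j)) j.castSucc

/-- `V(G_1, …, G_{r+1})` as a closed subscheme of `V(G_1, …, G_r)`. -/
theorem exists_ciIso : ∃ e : (ciIdeal G).subscheme ≅
    ((hypIdeal (G (Fin.last r))).comap (yι (fun j : Fin r => G j.castSucc))).subscheme,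
      e.hom ≫ ((hypIdeal (G (Fin.last r))).comap (yι (fun j : Fin r => G j.castSucc))).subschemeι ≫
        yι (fun j : Fin r => G j.castSucc) = (ciIdeal G).subschemeι := by
  have h1 : ciIdeal G = hypIdeal (G (Fin.last r)) ⊔ (yι (fun j : Fin r => G j.castSucc)).ker := by
    rw [ciIdeal_succ]
    congr 1
    exact (Scheme.IdealSheafData.ker_subschemeι _).symm
  have key : ∀ (I I' : (CohB1.ProjSpace N k).IdealSheafData), I = I' → ∃ e : I.subscheme ≅ I'.subscheme,
      e.hom ≫ I'.subschemeι = I.subschemeι := by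
    rintro I _ rfl
    exact ⟨Iso.refl _, Category.id_comp _⟩
  obtain ⟨e, he⟩ := key _ _ h1
  refine ⟨e ≪≫ (VarietyB.ClosedInter.interIso (yι (fun j : Fin r => G j.castSucc)) _).symm, ?_⟩
  rw [Iso.trans_hom, Category.assoc, Iso.symm_hom, ← VarietyB.ClosedInter.interIso_hom, Iso.inv_hom_id_assoc, he]

end Succ

end Groth.Agent.Coherent.K51.CIReg
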