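import Groth.Agent.Lefpen.H121.CurveForm
import Groth.Agent.Coherent.K51.CIAlg
import Groth.Agent.UnramA.SmoothFibreDim

/-!
# One step of a complete intersection in projective space

`G_0, …, G_{r-1}` forms in `P^N_k`, `Y` their common zero scheme, `H` a form of degree `b` which is a nonzerodivisor on
the charts of `Y`. Then the ideal of `Y ∩ V(H)` in `Y` is effective Cartier and isomorphic to `ι_Y^* O(-b)`.
`nonZeroDivisors_of_dim`: this holds for the last equation of a complete intersection.
-/

set_option autoImplicit false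
universe u

open CategoryTheory AlgebraicGeometry Limits TopologicalSpace Opposite MvPolynomial

namespace Groth.Agent.Coherent.K51.CIStep

open LefPen Groth.Agent.Lefpen.H718.Chart Groth.Agent.Lefpen.H705.HypIdeal Groth.Agent.Lefpen.H705.SecIdeal
open Groth.Agent.Lefpen.H705.ChartPoly Groth.Agent.Sga5 Groth.Agent.Fdesc.LocGen
open Groth.Agent.Lefpen.H121.ChartLift Groth.Agent.FormalB Groth.Agent.Dix.IdealModCartier
open Groth.Agent.Lefpen.H121.CurveForm Groth.Agent.Picfga.LineHom

variable {N r : ℕ} {k : Type u} [Field k]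

section Step

variable {a : Fin r → ℕ} (G : ∀ j : Fin r, Form N k (a j)) {b : ℕ} (H : Form N k b)

/-- The ideal of `Y ∩ V(H)` on the charts. -/
theorem comap_ideal (i : Fin (N + 1)) :
    ((hypIdeal H).comap (yι G)).ideal ⟨ychart G i, isAffineOpen_ychart G i⟩ = Ideal.span {fn G i H.1} := by
  have h1 := secIdeal_ideal_of_le (yι G) ({H} : Set (Form N k b)) i
    ⟨ychart G i, isAffineOpen_ychart G i⟩ le_rfl
  rw [Set.image_singleton, ← fn_eq_eqn] at h1
  have h2 : secIdeal (yι G) ({H} : Set (Form N k b)) = (hypIdeal H).comap (yι G) := by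
    rw [secIdeal, iSup_singleton]
  rw [← h2, h1]

variable (hreg : ∀ i, fn G i H.1 ∈ nonZeroDivisors Γ(Y G, ychart G i))

include hreg

theorem genOn (i : Fin (N + 1)) : GenOn ((hypIdeal H).comap (yι G)) (fn G i H.1) :=
  genOn_of_affine (U := ⟨ychart G i, isAffineOpen_ychart G i⟩) (hreg i) (comap_ideal G H i)

theorem isEffCartier : BlowUp.IsEffCartierIdeal ((hypIdeal H).comap (yι G)) := by
  intro y
  have hy : y ∈ ⨆ j : Fin (N + 1), ychart G j := by
    rw [Groth.Agent.Lefpen.H708.Geo.iSup_preimage_chart (yι G)]; trivial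
  obtain ⟨j, hj⟩ := Opens.mem_iSup.1 hy
  exact ⟨⟨ychart G j, isAffineOpen_ychart G j⟩, hj, _, hreg j, comap_ideal G H j⟩

/-- The ideal module of `Y ∩ V(H)` in `Y` is `O_Y(-b)`. -/
theorem nonempty_iso : Nonempty (ClSub.idealMod ((hypIdeal H).comap (yι G)) ≅
    (Scheme.Modules.pullback (yι G)).obj (Twist.twistProjSpace N k (-(b : ℤ)))) := by
  obtain ⟨g, hg, hrel⟩ := exists_gens_pullback G (-(b : ℤ))
  have hn : ∀ i, ∃ n : Γ(ClSub.idealMod ((hypIdeal H).comap (yι G)), ychart G i),
      val ((hypIdeal H).comap (yι G)) n = fn G i H.1 := fun i =>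
    exists_val_eq _ ⟨ychart G i, isAffineOpen_ychart G i⟩ (by
      rw [comap_ideal]; exact Ideal.mem_span_singleton_self _)
  choose n hn using hn
  have gn : ∀ i, IsGen (n i) := fun i => isGen_of_genOn ((hn i).symm ▸ genOn G H hreg i)
  obtain ⟨φ, -⟩ := exists_iso (L := (Scheme.Modules.pullback (yι G)).obj (Twist.twistProjSpace N k (-(b : ℤ))))
    (N := ClSub.idealMod ((hypIdeal H).comap (yι G)))
    (Groth.Agent.Lefpen.H708.Geo.iSup_preimage_chart (yι G)) (e := g) hg (n := n)
    (trans_of_inf hg (by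
      intro i j
      refine ⟨ores (inf_le_left : ychart G i ⊓ ychart G j ≤ _) (fn G i (X j)) ^ b, ?_, ?_⟩
      · have h1 := hrel i j
        have h2 : (-(b : ℤ)).toNat = 0 := Int.toNat_of_nonpos (by omega)
        have h3 : (- -(b : ℤ)).toNat = b := by simp
        rw [h2, h3, pow_zero, one_smul] at h1
        exact h1
      · apply val_injective
        rw [val_smul, val_res, val_res, hn, hn]
        exact ores_fn G i j H.2)) gn
  exact ⟨φ.symm⟩

end Step

section Dim

variable {a : Fin (r + 1) → ℕ} (G : ∀ j : Fin (r + 1), Form N k (a j))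

theorem ringKrullDim_quotient_le (i : Fin (N + 1)) :
    ringKrullDim (MvPolynomial (Fin N) k ⧸ Ideal.span (Set.range fun j => ProjChart.dehom N k i (G j).1)) ≤
      topologicalKrullDim (Y G) := by
  rw [← ker_toY G i, ringKrullDim_eq_of_ringEquiv (RingHom.quotientKerEquivOfSurjective (toY_surjective G i)),
    ← UnramA.SmoothFibreDim.topologicalKrullDim_affineOpen (isAffineOpen_ychart G i)]
  exact Topology.IsInducing.topologicalKrullDim_le (Topology.IsInducing.subtypeVal)

/-- The last equation of a complete intersection is a nonzerodivisor. -/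
theorem nonZeroDivisors_of_dim (hr : r + 1 ≤ N)
    (hdim : topologicalKrullDim ↥(ciIdeal G).subscheme = ((N - (r + 1) : ℕ) : WithBot ℕ∞)) (i : Fin (N + 1)) :
    fn (fun j : Fin r => G j.castSucc) i (G (Fin.last r)).1 ∈
      nonZeroDivisors Γ(Y (fun j : Fin r => G j.castSucc), ychart (fun j : Fin r => G j.castSucc) i) := by
  have h1 := ringKrullDim_quotient_le G i
  have h2 : ringKrullDim (MvPolynomial (Fin N) k ⧸ Ideal.span (Set.range fun j => ProjChart.dehom N k i (G j).1)) +
      ((r + 1 : ℕ) : WithBot ℕ∞) ≤ (N : WithBot ℕ∞) := by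
    refine (add_le_add_left (h1.trans hdim.le) _).trans ?_
    rw [← WithBot.coe_natCast]
    norm_cast
    omega
  rw [mem_nonZeroDivisors_iff_right]
  intro z hz
  obtain ⟨x, rfl⟩ := toY_surjective (fun j : Fin r => G j.castSucc) i z
  have h3 : ProjChart.dehom N k i (G (Fin.last r)).1 * x ∈
      RingHom.ker (toY (fun j : Fin r => G j.castSucc) i) := by
    rw [RingHom.mem_ker, map_mul, mul_comm]
    exact hz
  rw [ker_toY] at h3
  have h4 := CIAlg.mem_of_mul_mem k N r (fun j => ProjChart.dehom N k i (G j).1) h2 x h3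
  rw [← ker_toY (fun j : Fin r => G j.castSucc) i] at h4
  exact h4

end Dim

end Groth.Agent.Coherent.K51.CIStep
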