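import Groth.Agent.Coherent.K51.Emb

/-!
# Boundedness and the Le Potier–Simpson inequality from the core estimate
-/

set_option autoImplicit false
universe u
open CategoryTheory CategoryTheory.Limits AlgebraicGeometry Polynomial

namespace Groth.Agent.Coherent.K51.Cor

open Groth.Agent Groth.Agent.VarietyB.EulerBinom StabCat K244.RegSeq
open Groth.Agent.Coherent.K51.KlmPoly Groth.Agent.Coherent.K51.Klm Groth.Agent.Coherent.K51.HPDict
open Groth.Agent.Coherent.K51.LPS Groth.Agent.Pic13.H951.PresentX Groth.Agent.Coherent.K51.Emb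

/-- The uniform estimate in positive dimension over fields of characteristic zero. -/
def UnifAll : Prop := ∀ (n d r : ℕ) (b : ℚ) (P : ℚ[X]), 1 ≤ d → P.natDegree ≤ d →
  Unif.{u} (fun k _ => CharZero k) n d r b P

theorem isBounded_of_regular (k : Type u) [Field k] [IsAlgClosed k] {n : ℕ} {X : Scheme.{u}}
    [X.Over (Spec (CommRingCat.of k))] (i : X ⟶ CohB1.ProjSpace n k) [IsClosedImmersion i]
    (hi : i ≫ CohB1.ProjSpace.toSpec n k = X ↘ Spec (CommRingCat.of k)) (m : ℤ) (P : ℚ[X])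
    (Q : X.Modules → Prop)
    (hQ : ∀ E, Q E → Coh.IsCoh E ∧ Curv2.IsMRegular k n ((Scheme.Modules.pushforward i).obj E) m ∧
      HP k n ((Scheme.Modules.pushforward i).obj E) P) : _root_.Pic13.IsBounded k X Q := by
  obtain ⟨T, q, h1, h2, F, hF, h⟩ := S4285.result k n X i hi m P
  refine ⟨T, q, h1, h2, F, hF, fun E hE => h E ?_⟩
  obtain ⟨hc, hreg, hP⟩ := hQ E hE
  refine ⟨hc, K244.Reg.isMRegular_of_push k i hc.1 hreg, fun d => ?_⟩
  rw [← euler_push k i hi E d n, eulerCharLE_eq k n (isCoh_tensor_twist k n (isCoh_push k i hc) d)]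
  exact hP d

/-- Uniform regularity. -/
theorem exists_regular (U : UnifAll.{u}) (n : ℕ) (P : ℚ[X]) (d : ℕ) (b : ℚ) :
    ∃ m : ℤ, ∀ (k : Type u) [Field k], CharZero k → ∀ (E : (CohB1.ProjSpace n k).Modules), Coh.IsCoh E →
      HP k n E P → topologicalKrullDim ↥(CohB1.support E) = (d : WithBot ℕ∞) → SlopeLE k n E d b →
        Curv2.IsMRegular k n E m := by
  rcases Nat.eq_zero_or_pos d with rfl | hd
  · refine ⟨0, fun k _ _ E hE _ hdim _ q hq _ => ?_⟩
    exact _root_.K428.Reg.subsingleton_of_support hE 0 hdim.le _ q hq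
  · by_cases h : P.natDegree ≤ d
    · obtain ⟨r, hr⟩ := exists_nat_ge (W4c2simpsonmod1.rankOf d P)
      obtain ⟨N₀, h0⟩ := U n d r b P hd h
      exact ⟨N₀, fun k _ hk E hE hP hdim hs => (h0 N₀ le_rfl k hk E P ⟨hE, hP, hdim, hr, hs⟩).1 rfl⟩
    · exact ⟨0, fun k _ _ E hE hP hdim _ => absurd (natDegree_hp hE hdim hP).le h⟩

/-- The Le Potier–Simpson inequality in dimension zero. -/
theorem lps_zero {k : Type u} [Field k] {n : ℕ} {P : ℚ[X]} (hd : P.natDegree = 0)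
    {E F : (CohB1.ProjSpace n k).Modules} (hE : Coh.IsCoh E) (hP : HP k n E P)
    (hdE : topologicalKrullDim ↥(CohB1.support E) = (P.natDegree : WithBot ℕ∞))
    (hF : Coh.IsCoh F) (hdF : topologicalKrullDim ↥(CohB1.support F) = (P.natDegree : WithBot ℕ∞))
    {ψ : ℚ[X]} (hψ : HP k n F ψ) (N : ℤ) :
    (Module.finrank k (H k n F N 0) : ℚ) / W4c2simpsonmod1.rankOf P.natDegree ψ =
      P.eval (N : ℚ) / W4c2simpsonmod1.rankOf P.natDegree P ∧
    ∀ m : ℤ, ψ.eval (m : ℚ) / W4c2simpsonmod1.rankOf P.natDegree ψ =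
      P.eval (m : ℚ) / W4c2simpsonmod1.rankOf P.natDegree P := by
  have hreg : Curv2.IsMRegular k n F N := fun q hq _ =>
    _root_.K428.Reg.subsingleton_of_support hF 0 (by rw [hdF, hd]) _ q hq
  have h1 := h0_eq_of_regular hF hψ hreg
  have h2 := natDegree_hp hF hdF hψ
  rw [hd] at h2
  have a1 := alpha_pos hF hdF hψ
  have a2 := alpha_pos hE hdE hP
  rw [hd] at a1 a2
  have e1 : ∀ x : ℚ, ψ.eval x = alpha 0 ψ := fun x => by
    rw [Polynomial.eq_C_of_natDegree_eq_zero h2]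
    simp [alpha]
  have e2 : ∀ x : ℚ, P.eval x = alpha 0 P := fun x => by
    conv_lhs => rw [Polynomial.eq_C_of_natDegree_eq_zero hd]
    simp [alpha]
  have e3 : ∀ x : ℚ, ψ.eval x / W4c2simpsonmod1.rankOf P.natDegree ψ =
      P.eval x / W4c2simpsonmod1.rankOf P.natDegree P := fun x => by
    rw [e1, e2, rankOf_eq, rankOf_eq, hd, div_self a1.ne', div_self a2.ne']
  exact ⟨by rw [h1]; exact e3 _, fun m => e3 _⟩

/-- The Le Potier–Simpson inequality. -/
theorem lps_all (U : UnifAll.{u}) (n : ℕ) (P : ℚ[X]) :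
    ∃ N₀ : ℤ, ∀ N : ℤ, N₀ ≤ N → ∀ (k : Type u) [Field k], CharZero k →
      ∀ (E : (CohB1.ProjSpace n k).Modules), Coh.IsCoh E →
      HP k n E P →
      topologicalKrullDim ↥(CohB1.support E) = (P.natDegree : WithBot ℕ∞) →
      (∀ (G : (CohB1.ProjSpace n k).Modules) (ι : G ⟶ E), Mono ι → Coh.IsCoh G → ¬ IsZero G →
        topologicalKrullDim ↥(CohB1.support G) = (P.natDegree : WithBot ℕ∞) ∧
        ∀ ψ : ℚ[X], HP k n G ψ → W4c2simpsonmod1.RedLE P.natDegree ψ P) →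
      ∀ (F : (CohB1.ProjSpace n k).Modules) (ι : F ⟶ E), Mono ι → Coh.IsCoh F → ¬ IsZero F →
        ∀ ψ : ℚ[X], HP k n F ψ →
          ((Module.finrank k (H k n F N 0) : ℚ) / W4c2simpsonmod1.rankOf P.natDegree ψ ≤
              P.eval (N : ℚ) / W4c2simpsonmod1.rankOf P.natDegree P) ∧
          ((Module.finrank k (H k n F N 0) : ℚ) / W4c2simpsonmod1.rankOf P.natDegree ψ =
              P.eval (N : ℚ) / W4c2simpsonmod1.rankOf P.natDegree P →
            ∀ m : ℤ, ψ.eval (m : ℚ) / W4c2simpsonmod1.rankOf P.natDegree ψ =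
              P.eval (m : ℚ) / W4c2simpsonmod1.rankOf P.natDegree P) := by
  rcases Nat.eq_zero_or_pos P.natDegree with hd | hd
  · refine ⟨0, fun N _ k _ _ E hE hP hdE hss F ι hι hF hF0 ψ hψ => ?_⟩
    obtain ⟨h1, h2⟩ := lps_zero hd hE hP hdE hF (hss F ι hι hF hF0).1 hψ N
    exact ⟨h1.le, fun _ => h2⟩
  · obtain ⟨N₀, h0⟩ := lps n P hd fun r b P' hP' => U n P.natDegree r b P' hd hP'
    refine ⟨N₀, fun N hN k _ hk E hE hP hdE hss F ι hι hF hF0 ψ hψ => ?_⟩
    rcases h0 N hN k hk E hE hP hdE hss F ι hι hF hF0 ψ hψ with h | ⟨-, h1, h2⟩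
    · exact ⟨h.le, fun h' => absurd h' h.ne⟩
    · exact ⟨h1.le, fun _ => h2⟩

/-- The slopes of the submodules of a semistable module. -/
theorem slopeLE_of_ss {k : Type u} [Field k] {n : ℕ} {E : (CohB1.ProjSpace n k).Modules} {P : ℚ[X]}
    (hE : Coh.IsCoh E) (hP : HP k n E P)
    (hdE : topologicalKrullDim ↥(CohB1.support E) = (P.natDegree : WithBot ℕ∞))
    (hss : ∀ (G : (CohB1.ProjSpace n k).Modules) (ι : G ⟶ E), Mono ι → Coh.IsCoh G → ¬ IsZero G →
        topologicalKrullDim ↥(CohB1.support G) = (P.natDegree : WithBot ℕ∞) ∧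
        ∀ ψ : ℚ[X], HP k n G ψ → W4c2simpsonmod1.RedLE P.natDegree ψ P) :
    SlopeLE k n E P.natDegree (W4c2simpsonmod1.slopeOf P.natDegree P) := by
  intro G ι hι hG hG0
  refine ⟨(hss G ι hι hG hG0).1, fun ψ hψ => ?_⟩
  rcases Nat.eq_zero_or_pos P.natDegree with hd | hd
  · have a1 := alpha_pos hG (hss G ι hι hG hG0).1 hψ
    have a2 := alpha_pos hE hdE hP
    rw [slopeOf_eq, slopeOf_eq]
    rw [hd] at a1 a2 ⊢
    unfold hatSlope
    rw [Nat.zero_sub, div_self a1.ne', div_self a2.ne']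
  · exact K847.PolyOrd.hatSlope_le_of_redLE hd (natDegree_hp hG (hss G ι hι hG hG0).1 hψ).le le_rfl
      (alpha_pos hG (hss G ι hι hG hG0).1 hψ) (alpha_pos hE hdE hP)
      (redLE_of_W4 (alpha_pos hG (hss G ι hι hG hG0).1 hψ) (alpha_pos hE hdE hP) ((hss G ι hι hG hG0).2 ψ hψ))

section Pn

variable (U : UnifAll.{u}) (k : Type u) [Field k] [IsAlgClosed k] [CharZero k] (n : ℕ) (P : ℚ[X])

include U

/-- Boundedness on projective space. -/
theorem isBounded_pn (d : ℕ) (b : ℚ) (Q : (CohB1.ProjSpace n k).Modules → Prop)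
    (hQ : ∀ E, Q E → Coh.IsCoh E ∧ HP k n E P ∧ topologicalKrullDim ↥(CohB1.support E) = (d : WithBot ℕ∞) ∧
      SlopeLE k n E d b) : _root_.Pic13.IsBounded k (CohB1.ProjSpace n k) Q := by
  obtain ⟨m, hm⟩ := exists_regular U n P d b
  refine isBounded_of_regular k (𝟙 (CohB1.ProjSpace n k)) (Category.id_comp _) m P Q fun E hE => ?_
  obtain ⟨h1, h2, h3, h4⟩ := hQ E hE
  have e : E ≅ (Scheme.Modules.pushforward (𝟙 (CohB1.ProjSpace n k))).obj E :=
    ((Scheme.Modules.pushforwardId _).app E).symm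
  exact ⟨h1, _root_.K428.Reg.IsMRegular.congr e (hm k inferInstance E h1 h2 h3 h4), HP_iso e h2⟩

end Pn

section X

variable (U : UnifAll.{u}) (k : Type u) [Field k] [IsAlgClosed k] [CharZero k] {X : Scheme.{u}}
  [X.Over (Spec (CommRingCat.of k))] [IsProper (X ↘ Spec (CommRingCat.of k))]
  {L : X.Modules} (hva : RelAmple.IsRelVeryAmplePn (X ↘ Spec (CommRingCat.of k)) L) (P : ℚ[X])

/-- Slopes of the coherent submodules on `X`. -/
def SlopeLEX (L E : X.Modules) (d : ℕ) (b : ℚ) : Prop :=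
  ∀ (G : X.Modules) (ι : G ⟶ E), Mono ι → Coh.IsCoh G → ¬ IsZero G →
    topologicalKrullDim ↥(CohB1.support G) = (d : WithBot ℕ∞) ∧
    ∀ ψ : ℚ[X], ShStab.IsHilbPoly k X L G ψ → StabCat.hatSlope d ψ ≤ b

omit [IsAlgClosed k] [CharZero k] [IsProper (X ↘ Spec (CommRingCat.of k))] in
theorem slopeLE_push {n : ℕ} (i : X ⟶ CohB1.ProjSpace n k) [IsClosedImmersion i]
    (hi : i ≫ CohB1.ProjSpace.toSpec n k = X ↘ Spec (CommRingCat.of k))
    (e : (Scheme.Modules.pullback i).obj (Twist.twistProjSpace n k 1) ≅ L) {E : X.Modules} {d : ℕ} {b : ℚ}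
    (h : SlopeLEX k L E d b) : SlopeLE k n ((Scheme.Modules.pushforward i).obj E) d b := by
  refine forall_sub i (Q := fun G => topologicalKrullDim ↥(CohB1.support G) = (d : WithBot ℕ∞) ∧
    ∀ ψ : ℚ[X], HP k n G ψ → W4c2simpsonmod1.slopeOf d ψ ≤ b) ?_ ?_
  · rintro G G' e' ⟨h1, h2⟩
    exact ⟨(dim_iso e') ▸ h1, fun ψ hψ => h2 ψ (HP_iso e'.symm hψ)⟩
  · intro G ι hι hG hG0
    obtain ⟨h1, h2⟩ := h G ι hι hG hG0
    exact ⟨(dim_support_push i G).trans h1, fun ψ hψ => h2 ψ ((isHilbPoly_iff i hi e hG).2 hψ)⟩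

include U hva in
/-- Boundedness on `X`. -/
theorem isBounded_X (d : ℕ) (b : ℚ) (Q : X.Modules → Prop)
    (hQ : ∀ E, Q E → Coh.IsCoh E ∧ ¬ IsZero E ∧ ShStab.IsHilbPoly k X L E P ∧ SlopeLEX k L E d b) :
    _root_.Pic13.IsBounded k X Q := by
  obtain ⟨n, i, hcl, hi, ⟨e⟩⟩ := exists_pn k hva
  obtain ⟨m, hm⟩ := exists_regular U n P d b
  refine isBounded_of_regular k i hi m P Q fun E hE => ?_
  obtain ⟨h1, h0, h2, h4⟩ := hQ E hE
  have hP := (isHilbPoly_iff i hi e h1).1 h2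
  exact ⟨h1, hm k inferInstance _ (isCoh_push k i h1) hP
    ((dim_support_push i E).trans (h4 E (𝟙 E) inferInstance h1 h0).1) (slopeLE_push k i hi e h4), hP⟩

end X

end Groth.Agent.Coherent.K51.Cor
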