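import Groth.Agent.Coherent.K51.Cor

/-!
# Semistable modules on a projective scheme: boundedness and the Le Potier–Simpson inequality
-/

set_option autoImplicit false
universe u
open CategoryTheory CategoryTheory.Limits AlgebraicGeometry Polynomial

namespace Groth.Agent.Coherent.K51.CorX

open Groth.Agent Groth.Agent.VarietyB.EulerBinom StabCat K244.RegSeq
open Groth.Agent.Coherent.K51.KlmPoly Groth.Agent.Coherent.K51.Klm Groth.Agent.Coherent.K51.HPDict
open Groth.Agent.Coherent.K51.LPS Groth.Agent.Pic13.H951.PresentX Groth.Agent.Coherent.K51.Emb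
open Groth.Agent.Coherent.K51.Cor

theorem W4_of_redLE {d : ℕ} {ψ P : ℚ[X]} (hψ : 0 < alpha d ψ) (hP : 0 < alpha d P)
    (h : StabCat.RedLE d ψ P) : W4c2simpsonmod1.RedLE d ψ P := by
  obtain ⟨N, hN⟩ := exists_int_of_polyLE h
  refine ⟨N, fun m hm => ?_⟩
  have h1 := hN m hm
  rw [eval_smul, eval_smul, smul_eq_mul, smul_eq_mul] at h1
  rw [rankOf_eq, rankOf_eq, div_le_div_iff₀ hψ hP]
  linarith

theorem W4_refl (d : ℕ) (P : ℚ[X]) : W4c2simpsonmod1.RedLE d P P := ⟨0, fun _ _ => le_rfl⟩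

section X

variable {k : Type u} [Field k] {X : Scheme.{u}}
  [X.Over (Spec (CommRingCat.of k))] [IsProper (X ↘ Spec (CommRingCat.of k))]
  {L : X.Modules} (hL : CohB1.IsAmple L)

omit [IsProper (X ↘ Spec (CommRingCat.of k))] in
/-- Comparison for submodules of a semistable module. -/
theorem redLE_of_ss {E : X.Modules} {d : ℕ} {P : ℚ[X]} (hE : ShStab.IsSemistable k X L E d)
    (hP : ShStab.IsHilbPoly k X L E P) {G : X.Modules} (ι : G ⟶ E) [Mono ι] (hG : Coh.IsCoh G) (hG0 : ¬ IsZero G)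
    {ψ : ℚ[X]} (hψ : ShStab.IsHilbPoly k X L G ψ) : StabCat.RedLE d ψ P := by
  by_cases hiso : IsIso ι
  · have h1 : ShStab.IsHilbPoly k X L G P := K847.HilbBasic.isHilbPoly_iso k (asIso ι).symm hP
    rw [K847.HilbBasic.hilbPoly_unique k hψ h1]
    exact K847.PolyOrd.redLE_refl P
  · exact hE.2.2.2 G ι inferInstance hG hG0 hiso ψ P hψ hP

include hL in
theorem slopeLEX_of_ss {E : X.Modules} {d : ℕ} {P : ℚ[X]} (hE : ShStab.IsSemistable k X L E d)
    (hP : ShStab.IsHilbPoly k X L E P) : SlopeLEX k L E d (hatSlope d P) := by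
  intro G ι hι hG hG0
  have h1 := hE.2.2.1 G ι hι hG hG0
  have h2 := hE.2.2.1 E (𝟙 E) inferInstance hE.1 hE.2.1
  refine ⟨h1, fun ψ hψ => ?_⟩
  have a1 := K847.HilbBasic.alpha_pos k hL hG h1 hψ
  have a2 := K847.HilbBasic.alpha_pos k hL hE.1 h2 hP
  rcases Nat.eq_zero_or_pos d with rfl | hd
  · unfold hatSlope
    rw [Nat.zero_sub, div_self a1.ne', div_self a2.ne']
  · exact K847.PolyOrd.hatSlope_le_of_redLE hd (K847.HilbBasic.natDegree_eq k hL hG h1 hψ).le
      (K847.HilbBasic.natDegree_eq k hL hE.1 h2 hP).le a1 a2 (redLE_of_ss hE hP ι hG hG0 hψ)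

end X

variable (U : UnifAll.{u}) (k : Type u) [Field k] [CharZero k] {X : Scheme.{u}}
  [X.Over (Spec (CommRingCat.of k))] [IsProper (X ↘ Spec (CommRingCat.of k))]
  {L : X.Modules} (hL : CohB1.IsAmple L) (hva : RelAmple.IsRelVeryAmplePn (X ↘ Spec (CommRingCat.of k)) L)
  (P : ℚ[X])

include U hL hva

/-- Boundedness of semistable modules. -/
theorem isBounded_ss [IsAlgClosed k] (d : ℕ) :
    _root_.Pic13.IsBounded k X (fun E => ShStab.IsSemistable k X L E d ∧ ShStab.IsHilbPoly k X L E P) :=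
  isBounded_X U k hva P d (hatSlope d P) _ fun _ hE =>
    ⟨hE.1.1, hE.1.2.1, hE.2, slopeLEX_of_ss hL hE.1 hE.2⟩

/-- The Le Potier–Simpson inequality on `X`. -/
theorem lps_X : ∃ N₀ : ℕ, ∀ N : ℕ, N₀ ≤ N → ∀ (E : X.Modules), ShStab.IsSemistable k X L E P.natDegree →
    ShStab.IsHilbPoly k X L E P →
      ∀ (F : X.Modules) (ι : F ⟶ E), Mono ι → Coh.IsCoh F → ¬ IsZero F →
        ∀ ψ : ℚ[X], ShStab.IsHilbPoly k X L F ψ →
          (Module.finrank k (Coh.HH X (ShStab.twist X L F N) 0) : ℚ) / StabCat.alpha P.natDegree ψ ≤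
              P.eval (N : ℚ) / StabCat.alpha P.natDegree P ∧
          ((Module.finrank k (Coh.HH X (ShStab.twist X L F N) 0) : ℚ) / StabCat.alpha P.natDegree ψ =
              P.eval (N : ℚ) / StabCat.alpha P.natDegree P →
            StabCat.RedEq P.natDegree ψ P) := by
  obtain ⟨n, i, hcl, hi, ⟨e⟩⟩ := exists_pn k hva
  obtain ⟨N₀, h0⟩ := lps_all U n P
  refine ⟨N₀.toNat, fun N hN E hE hP F ι hι hF hF0 ψ hψ => ?_⟩
  have hdE := hE.2.2.1 E (𝟙 E) inferInstance hE.1 hE.2.1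
  have hP' := (isHilbPoly_iff i hi e hE.1).1 hP
  have hss : ∀ (G : (CohB1.ProjSpace n k).Modules) (ι : G ⟶ (Scheme.Modules.pushforward i).obj E), Mono ι →
      Coh.IsCoh G → ¬ IsZero G →
        topologicalKrullDim ↥(CohB1.support G) = (P.natDegree : WithBot ℕ∞) ∧
        ∀ ψ : ℚ[X], HP k n G ψ → W4c2simpsonmod1.RedLE P.natDegree ψ P := by
    refine forall_sub i (Q := fun G => topologicalKrullDim ↥(CohB1.support G) = (P.natDegree : WithBot ℕ∞) ∧
      ∀ ψ : ℚ[X], HP k n G ψ → W4c2simpsonmod1.RedLE P.natDegree ψ P) ?_ ?_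
    · rintro G G' e' ⟨h1, h2⟩
      exact ⟨(dim_iso e') ▸ h1, fun ψ hψ => h2 ψ (HP_iso e'.symm hψ)⟩
    · intro G ι hι hG hG0
      have h1 := hE.2.2.1 G ι hι hG hG0
      refine ⟨(dim_support_push i G).trans h1, fun ψ hψ => ?_⟩
      have hψ' := (isHilbPoly_iff i hi e hG).2 hψ
      exact W4_of_redLE (K847.HilbBasic.alpha_pos k hL hG h1 hψ') (K847.HilbBasic.alpha_pos k hL hE.1 hdE hP)
        (redLE_of_ss hE hP ι hG hG0 hψ')
  have hmono : Mono ((Scheme.Modules.pushforward i).map ι) := inferInstance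
  obtain ⟨h1, h2⟩ := h0 N (by omega) k inferInstance _ (isCoh_push k i hE.1) hP'
    ((dim_support_push i E).trans hdE) hss _ ((Scheme.Modules.pushforward i).map ι) hmono (isCoh_push k i hF)
    (fun h => hF0 ((isZero_push_iff i F).1 h)) ψ ((isHilbPoly_iff i hi e hF).1 hψ)
  rw [finrank_HH i hi e F N 0]
  have e0 : ((N : ℤ) : ℚ) = (N : ℚ) := by simp
  rw [e0, rankOf_eq, rankOf_eq] at h1 h2
  refine ⟨h1, fun h => ?_⟩
  have h3 := h2 h
  have a1 := K847.HilbBasic.alpha_pos k hL hF (hE.2.2.1 F ι hι hF hF0) hψ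
  have a2 := K847.HilbBasic.alpha_pos k hL hE.1 hdE hP
  unfold StabCat.RedEq
  refine ext_int fun m => ?_
  have h4 := h3 m
  rw [div_eq_div_iff a1.ne' a2.ne'] at h4
  rw [eval_smul, eval_smul, smul_eq_mul, smul_eq_mul]
  linarith

end Groth.Agent.Coherent.K51.CorX
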