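import Groth.Prelude.Def_ega3
import Mathlib.Algebra.Homology.DerivedCategory.KProjective
import Mathlib.Algebra.Homology.Embedding.RestrictionHomology
import Mathlib.Algebra.Homology.Embedding.CochainComplex
import Mathlib.Algebra.Category.ModuleCat.Projective

/-!
# Shrinking a bounded complex of finite projective modules to its amplitude

* `nonempty_T_iso`: `H^p(K ⊗ M) ≅ H^p(L ⊗ M)` for a quasi-isomorphism `K ⟶ L` of bounded above complexes of
  projective modules.
* `exists_trunc`: `K` a bounded above complex of finite projective modules over a Noetherian ring, exact in degrees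
  `> d` and `< d'`, with projective cokernel `K^{d'} / im`: there is a complex `L` of finite projective modules in
  degrees `[d', d]` with `H^p(L ⊗ M) ≅ H^p(K ⊗ M)` for all `M`, and `L = 0` if `K` is exact.
* `neg`: a chain complex as a cochain complex; `nonempty_T_neg`.
-/

set_option autoImplicit false
universe u

open CategoryTheory CategoryTheory.Limits

namespace Groth.Agent.Coherent.K51.CxAmp

variable {A : Type u} [CommRing A]

theorem nonempty_T_iso_of_homotopyEquiv {K L : CochainComplex (ModuleCat.{u} A) ℤ} (e : HomotopyEquiv K L)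
    (p : ℤ) (M : ModuleCat.{u} A) : Nonempty (CohIII.T K p M ≅ CohIII.T L p M) :=
  ⟨((MonoidalCategory.tensorRight M).mapHomotopyEquiv e).toHomologyIso p⟩

theorem nonempty_T_iso {K L : CochainComplex (ModuleCat.{u} A) ℤ} [K.IsKProjective] [L.IsKProjective]
    (f : K ⟶ L) [QuasiIso f] (p : ℤ) (M : ModuleCat.{u} A) : Nonempty (CohIII.T K p M ≅ CohIII.T L p M) := by
  obtain ⟨e, -⟩ := (CochainComplex.IsKProjective.quasiIso_iff f).1 inferInstance
  exact nonempty_T_iso_of_homotopyEquiv e p M

theorem isKProjective (K : CochainComplex (ModuleCat.{u} A) ℤ) (hK : ∀ i, Module.Projective A (K.X i)) (b : ℤ)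
    [K.IsStrictlyLE b] : K.IsKProjective := by
  have : ∀ n, Projective (K.X n) := fun n => by
    have := hK n
    exact (IsProjective.iff_projective (K.X n)).1 this
  exact CochainComplex.isKProjective_of_projective K b

section Cycles

variable (K : CochainComplex (ModuleCat.{u} A) ℤ) (hK : ∀ i, Projective (K.X i))

include hK in
theorem projective_cycles_of_succ (i : ℤ) (h : K.ExactAt (i + 1)) (h' : Projective (K.cycles (i + 1))) :
    Projective (K.cycles i) := by
  let S : ShortComplex (ModuleCat.{u} A) := ShortComplex.mk (K.iCycles i) (K.toCycles i (i + 1)) (by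
    rw [← cancel_mono (K.iCycles (i + 1)), Category.assoc, HomologicalComplex.toCycles_i,
      HomologicalComplex.iCycles_d, zero_comp])
  have hmono : Mono S.f := inferInstanceAs (Mono (K.iCycles i))
  have hepi : Epi S.g := by
    have h1 := h
    rw [K.exactAt_iff' i (i + 1) (i + 1 + 1) (by simp) (by simp)] at h1
    have h2 := h1.epi_toCycles
    have h3 := K.toCycles_cyclesIsoSc'_hom i (i + 1) (i + 1 + 1) (by simp) (by simp)
    have h4 := (Iso.eq_comp_inv _).2 h3
    change Epi (K.toCycles i (i + 1))
    rw [h4]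
    exact epi_comp' h2 inferInstance
  have hex : S.Exact := by
    have h5 : (ShortComplex.mk (K.iCycles i) (K.d i (i + 1)) (K.iCycles_d i (i + 1))).Exact :=
      ShortComplex.exact_of_f_is_kernel _ (K.cyclesIsKernel i (i + 1) (by simp))
    let φ : S ⟶ ShortComplex.mk (K.iCycles i) (K.d i (i + 1)) (K.iCycles_d i (i + 1)) :=
      { τ₁ := 𝟙 _
        τ₂ := 𝟙 _
        τ₃ := K.iCycles (i + 1)
        comm₁₂ := by simp [S]
        comm₂₃ := by simp [S] }
    have : Epi φ.τ₁ := inferInstanceAs (Epi (𝟙 _))
    have : IsIso φ.τ₂ := inferInstanceAs (IsIso (𝟙 _))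
    have : Mono φ.τ₃ := inferInstanceAs (Mono (K.iCycles (i + 1)))
    exact (ShortComplex.exact_iff_of_epi_of_isIso_of_mono φ).2 h5
  have hS : S.ShortExact := { exact := hex, mono_f := hmono, epi_g := hepi }
  have : Projective S.X₃ := h'
  have : Projective S.X₂ := hK i
  exact Retract.projective { i := _, r := _, retract := hS.splittingOfProjective.f_r }

include hK in
theorem projective_cycles (b d : ℤ) [K.IsStrictlyLE b] (hd : ∀ i, d < i → K.ExactAt i) :
    ∀ (n : ℕ) (i : ℤ), d ≤ i → b - i ≤ n → Projective (K.cycles i)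
  | 0, i, hi, hb => by
    have hz : IsZero (K.X (i + 1)) := K.isZero_of_isStrictlyLE b (i + 1) (by simp at hb; omega)
    have : IsIso (K.iCycles i) := K.isIso_iCycles i (i + 1) (by simp) (hz.eq_of_tgt _ _)
    exact Projective.of_iso (asIso (K.iCycles i)).symm (hK i)
  | n + 1, i, hi, hb => by
    have h1 := projective_cycles b d hd n (i + 1) (by omega) (by push_cast at hb; omega)
    exact projective_cycles_of_succ K hK i (hd _ (by omega)) h1

end Cycles

section Trunc

/-- finite projective modules are stable under isomorphism in `ModuleCat` -/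
theorem fp_of_iso {M N : ModuleCat.{u} A} (e : M ≅ N) (h : Module.Finite A M ∧ Module.Projective A M) :
    Module.Finite A N ∧ Module.Projective A N := by
  have := h.1
  have := h.2
  exact ⟨Module.Finite.equiv e.toLinearEquiv, Module.Projective.of_equiv e.toLinearEquiv⟩

theorem fp_of_isZero {M : ModuleCat.{u} A} (h : IsZero M) : Module.Finite A M ∧ Module.Projective A M := by
  have : Subsingleton M := ModuleCat.subsingleton_of_isZero h
  exact ⟨inferInstance, inferInstance⟩

theorem isKProjective_of_fp (K : CochainComplex (ModuleCat.{u} A) ℤ)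
    (hK : ∀ i, Module.Finite A (K.X i) ∧ Module.Projective A (K.X i)) (b : ℤ) [K.IsStrictlyLE b] :
    K.IsKProjective := isKProjective K (fun i => (hK i).2) b

/-- Truncation from below. -/
theorem exists_truncGE (K : CochainComplex (ModuleCat.{u} A) ℤ)
    (hK : ∀ i, Module.Finite A (K.X i) ∧ Module.Projective A (K.X i)) (b : ℤ) [K.IsStrictlyLE b] (d' : ℤ)
    (hd' : ∀ i, i < d' → K.ExactAt i) (hop : Module.Projective A (K.opcycles d')) :
    ∃ (M : CochainComplex (ModuleCat.{u} A) ℤ) (_ : ∀ i, Module.Finite A (M.X i) ∧ Module.Projective A (M.X i))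
      (_ : ∀ i, i < d' → IsZero (M.X i)) (_ : M.IsStrictlyLE (max b d')) (π : K ⟶ M), QuasiIso π := by
  have hGE : K.IsGE d' := (K.isGE_iff d').2 hd'
  have hz : ∀ i, i < d' → IsZero ((K.truncGE d').X i) := fun i hi => (K.truncGE d').isZero_of_isStrictlyGE d' i hi
  refine ⟨K.truncGE d', fun i => ?_, hz, ?_, K.πTruncGE d', inferInstance⟩
  · rcases lt_trichotomy i d' with hi | rfl | hi
    · exact fp_of_isZero (hz i hi)
    · refine fp_of_iso (K.truncGEXIsoOpcycles i).symm ⟨?_, hop⟩
      have := (hK i).1
      have hs : Function.Surjective (K.pOpcycles i).hom :=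
        (ModuleCat.epi_iff_surjective (K.pOpcycles i)).1 inferInstance
      exact Module.Finite.of_surjective (K.pOpcycles i).hom hs
    · exact fp_of_iso (K.truncGEXIso d' i hi).symm (hK i)
  · rw [CochainComplex.isStrictlyLE_iff]
    intro i hi
    have h1 : d' < i := lt_of_le_of_lt (le_max_right _ _) hi
    have h2 : b < i := lt_of_le_of_lt (le_max_left _ _) hi
    exact IsZero.of_iso (K.isZero_of_isStrictlyLE b i h2) (K.truncGEXIso d' i h1)

/-- Truncation from above. -/
theorem exists_truncLE [IsNoetherianRing A] (K : CochainComplex (ModuleCat.{u} A) ℤ)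
    (hK : ∀ i, Module.Finite A (K.X i) ∧ Module.Projective A (K.X i)) (b : ℤ) [K.IsStrictlyLE b] (d : ℤ)
    (hd : ∀ i, d < i → K.ExactAt i) :
    ∃ (L : CochainComplex (ModuleCat.{u} A) ℤ) (_ : ∀ i, Module.Finite A (L.X i) ∧ Module.Projective A (L.X i))
      (_ : ∀ i, d < i → IsZero (L.X i)) (_ : ∀ i, IsZero (K.X i) → IsZero (L.X i))
      (_ : L.IsStrictlyLE d) (ι : L ⟶ K), QuasiIso ι := by
  have hLE : K.IsLE d := (K.isLE_iff d).2 hd
  have hz : ∀ i, d < i → IsZero ((K.truncLE d).X i) := fun i hi => (K.truncLE d).isZero_of_isStrictlyLE d i hi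
  have hp : ∀ n, Projective (K.X n) := fun n => by
    have := (hK n).2
    exact (IsProjective.iff_projective (K.X n)).1 this
  refine ⟨K.truncLE d, fun i => ?_, hz, fun i hi => ?_, inferInstance, K.ιTruncLE d, inferInstance⟩
  · rcases lt_trichotomy i d with hi | rfl | hi
    · exact fp_of_iso (K.truncLEXIso d i hi).symm (hK i)
    · refine fp_of_iso (K.truncLEXIsoCycles i).symm ⟨?_, ?_⟩
      · have := (hK i).1
        have hs : Function.Injective (K.iCycles i).hom :=
          (ModuleCat.mono_iff_injective (K.iCycles i)).1 inferInstance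
        exact Module.Finite.of_injective (K.iCycles i).hom hs
      · have h1 := projective_cycles K hp b i hd (b - i).toNat i le_rfl (by omega)
        exact (IsProjective.iff_projective (K.cycles i)).2 h1
    · exact fp_of_isZero (hz i hi)
  · rcases lt_trichotomy i d with hi' | rfl | hi'
    · exact IsZero.of_iso hi (K.truncLEXIso d i hi')
    · refine IsZero.of_iso ?_ (K.truncLEXIsoCycles i)
      exact IsZero.of_mono (K.iCycles i) hi
    · exact hz i hi'

/-- **Shrinking a complex to its amplitude.** -/
theorem exists_trunc [IsNoetherianRing A] (K : CochainComplex (ModuleCat.{u} A) ℤ)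
    (hK : ∀ i, Module.Finite A (K.X i) ∧ Module.Projective A (K.X i)) (b : ℤ) [K.IsStrictlyLE b] (d' d : ℤ)
    (hd : ∀ i, d < i → K.ExactAt i) (hd' : ∀ i, i < d' → K.ExactAt i)
    (hop : Module.Projective A (K.opcycles d')) :
    ∃ L : CochainComplex (ModuleCat.{u} A) ℤ,
      (∀ i, Module.Finite A (L.X i) ∧ Module.Projective A (L.X i)) ∧
      (∀ i : ℤ, i < d' ∨ d < i → IsZero (L.X i)) ∧ ((∀ i, K.ExactAt i) → ∀ i, IsZero (L.X i)) ∧
      ∀ (p : ℤ) (M : ModuleCat.{u} A), Nonempty (CohIII.T L p M ≅ CohIII.T K p M) := by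
  have hKp := isKProjective_of_fp K hK b
  by_cases hex : ∀ i, K.ExactAt i
  · let Z : CochainComplex (ModuleCat.{u} A) ℤ := HomologicalComplex.zero
    have hZ : ∀ i, IsZero (Z.X i) := fun i => isZero_zero _
    have h0 : Z.IsStrictlyLE b := (CochainComplex.isStrictlyLE_iff _ _).2 fun i _ => hZ i
    have hZp : Z.IsKProjective := isKProjective_of_fp Z (fun i => fp_of_isZero (hZ i)) b
    have hZe : ∀ i, Z.ExactAt i := fun i => ShortComplex.exact_of_isZero_X₂ _ (hZ i)
    have : QuasiIso (0 : Z ⟶ K) := ⟨fun i => (quasiIsoAt_iff_exactAt _ i (hZe i)).2 (hex i)⟩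
    exact ⟨Z, fun i => fp_of_isZero (hZ i), fun i _ => hZ i, fun _ i => hZ i,
      fun p N => nonempty_T_iso (0 : Z ⟶ K) p N⟩
  · obtain ⟨M, hM, hMz, hMb, π, hπ⟩ := exists_truncGE K hK b d' hd' hop
    have hMd : ∀ i, d < i → M.ExactAt i := fun i hi => by
      rw [← exactAt_iff_of_quasiIsoAt π]
      exact hd i hi
    obtain ⟨L, hL, hLz, hLz', hLb, ι, hι⟩ := exists_truncLE M hM (max b d') d hMd
    have := isKProjective_of_fp M hM (max b d')
    have := isKProjective_of_fp L hL d
    refine ⟨L, hL, fun i hi => ?_, fun h => absurd h hex, fun p N => ?_⟩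
    · rcases hi with hi | hi
      · exact hLz' i (hMz i hi)
      · exact hLz i hi
    · obtain ⟨e1⟩ := nonempty_T_iso π p N
      obtain ⟨e2⟩ := nonempty_T_iso ι p N
      exact ⟨e2 ≪≫ e1.symm⟩

end Trunc

section Neg

/-- The embedding `i ↦ -i` of cochain degrees in chain degrees. -/
def neg : (ComplexShape.up ℤ).Embedding (ComplexShape.down ℤ) where
  f i := -i
  injective_f := neg_injective
  rel := by
    intro i j h
    simp only [ComplexShape.up_Rel] at h
    simp only [ComplexShape.down_Rel]
    omega

instance : neg.IsRelIff where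
  rel' i j h := by
    simp only [neg, ComplexShape.down_Rel] at h
    simp only [ComplexShape.up_Rel]
    omega

/-- A chain complex as a cochain complex. -/
noncomputable abbrev toCochain (P : ChainComplex (ModuleCat.{u} A) ℤ) : CochainComplex (ModuleCat.{u} A) ℤ :=
  P.restriction neg

noncomputable def homologyIso (P : ChainComplex (ModuleCat.{u} A) ℤ) (p : ℤ) :
    (toCochain P).homology p ≅ P.homology (-p) :=
  P.restrictionHomologyIso neg (p - 1) p (p + 1) (by simp) (by simp) (i' := -(p - 1)) (j' := -p) (k' := -(p + 1))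
    rfl rfl rfl (by simp; ring) (by simp; ring)

noncomputable def opcyclesIso (P : ChainComplex (ModuleCat.{u} A) ℤ) (p : ℤ) :
    (toCochain P).opcycles p ≅ P.opcycles (-p) :=
  P.restrictionOpcyclesIso neg (p - 1) p (by simp) (i' := -(p - 1)) (j' := -p) 
    rfl rfl (by simp; ring)

theorem nonempty_T_neg (P : ChainComplex (ModuleCat.{u} A) ℤ) (p : ℤ) (M : ModuleCat.{u} A) :
    Nonempty (CohIII.T (toCochain P) p M ≅ CohIII.T P (-p) M) :=
  ⟨homologyIso (CohIII.tensorObj P M) p⟩

end Neg

end Groth.Agent.Coherent.K51.CxAmp
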