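import Groth.Agent.Coherent.K51.HPDict
import Groth.Prelude.Def_W4c2simpsonmod1HP
import Groth.Agent.Variety.K428.Reg

/-!
# The Le Potier–Simpson inequality from bounds for `h⁰` of hyperplane sections
-/

set_option autoImplicit false
universe u
open CategoryTheory CategoryTheory.Limits AlgebraicGeometry Polynomial

namespace Groth.Agent.Coherent.K51.LPS

open Groth.Agent Groth.Agent.VarietyB.EulerBinom StabCat K244.RegSeq
open Groth.Agent.Coherent.K51.KlmPoly Groth.Agent.Coherent.K51.Klm Groth.Agent.Coherent.K51.HPDict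

/-- Every nonzero coherent submodule is of dimension `d` and has slope at most `b`. -/
def SlopeLE (k : Type u) [Field k] (n : ℕ) (E : (CohB1.ProjSpace n k).Modules) (d : ℕ) (b : ℚ) : Prop :=
  ∀ (G : (CohB1.ProjSpace n k).Modules) (ι : G ⟶ E), Mono ι → Coh.IsCoh G → ¬ IsZero G →
    topologicalKrullDim ↥(CohB1.support G) = (d : WithBot ℕ∞) ∧
    ∀ ψ : ℚ[X], HP k n G ψ → W4c2simpsonmod1.slopeOf d ψ ≤ b

/-- The class of modules considered. -/
structure Cls (k : Type u) [Field k] (n d r : ℕ) (b : ℚ) (E : (CohB1.ProjSpace n k).Modules) (φ : ℚ[X]) : Prop where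
  coh : Coh.IsCoh E
  hp : HP k n E φ
  dim : topologicalKrullDim ↥(CohB1.support E) = (d : WithBot ℕ∞)
  rank : W4c2simpsonmod1.rankOf d φ ≤ r
  slope : SlopeLE k n E d b

/-- The uniform statement for the class `Cls`: regularity and the strict inequality. -/
def Unif (K : ∀ (k : Type u) [Field k], Prop) (n d r : ℕ) (b : ℚ) (P : ℚ[X]) : Prop :=
  ∃ N₀ : ℤ, ∀ N : ℤ, N₀ ≤ N → ∀ (k : Type u) [Field k], K k → ∀ (E : (CohB1.ProjSpace n k).Modules) (φ : ℚ[X]),
    Cls k n d r b E φ → (φ = P → Curv2.IsMRegular k n E N) ∧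
      (PolyLT φ P → (Module.finrank k (H k n E N 0) : ℚ) < P.eval (N : ℚ))

theorem slopeOf_eq (d : ℕ) (ψ : ℚ[X]) : W4c2simpsonmod1.slopeOf d ψ = hatSlope d ψ := rfl

theorem rankOf_eq (d : ℕ) (ψ : ℚ[X]) : W4c2simpsonmod1.rankOf d ψ = alpha d ψ := rfl

theorem polyLE_of_redLE {d : ℕ} {ψ P : ℚ[X]} (h : W4c2simpsonmod1.RedLE d ψ P) :
    PolyLE ((W4c2simpsonmod1.rankOf d ψ)⁻¹ • ψ) ((W4c2simpsonmod1.rankOf d P)⁻¹ • P) := by
  obtain ⟨N, hN⟩ := h
  refine polyLE_of_int N fun m hm => ?_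
  have := hN m hm
  rw [eval_smul, eval_smul, smul_eq_mul, smul_eq_mul, inv_mul_eq_div, inv_mul_eq_div]
  exact this

theorem polyLE_smul {P Q : ℚ[X]} (h : PolyLE P Q) {c : ℚ} (hc : 0 ≤ c) : PolyLE (c • P) (c • Q) := by
  obtain ⟨N, hN⟩ := h
  refine ⟨N, fun m hm => ?_⟩
  rw [eval_smul, eval_smul]
  exact mul_le_mul_of_nonneg_left (hN m hm) hc

theorem redLE_of_W4 {d : ℕ} {ψ P : ℚ[X]} (hψ : 0 < alpha d ψ) (hP : 0 < alpha d P)
    (h : W4c2simpsonmod1.RedLE d ψ P) : StabCat.RedLE d ψ P := by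
  have h1 := polyLE_smul (polyLE_of_redLE h) (mul_pos hψ hP).le
  unfold StabCat.RedLE
  rw [smul_smul, smul_smul, rankOf_eq, rankOf_eq] at h1
  have e1 : alpha d ψ * alpha d P * (alpha d ψ)⁻¹ = alpha d P := by field_simp
  have e2 : alpha d ψ * alpha d P * (alpha d P)⁻¹ = alpha d ψ := by field_simp
  rwa [e1, e2] at h1

theorem polyLE_eq_or_lt {P Q : ℚ[X]} (h : PolyLE P Q) : P = Q ∨ PolyLT P Q := by
  rw [K849.PolyOrd.polyLE_iff_sub, K849.PolyOrd.polyLE_iff] at h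
  rcases h with h | h
  · exact Or.inl (sub_eq_zero.1 h).symm
  · exact Or.inr (K849.PolyOrd.polyLT_iff_sub.2 (K849.PolyOrd.polyLT_iff.2 h))

section

variable {k : Type u} [Field k] {n : ℕ}

theorem natDegree_hp {F : (CohB1.ProjSpace n k).Modules} (hF : Coh.IsCoh F) {d : ℕ}
    (hd : topologicalKrullDim ↥(CohB1.support F) = (d : WithBot ℕ∞)) {ψ : ℚ[X]} (hψ : HP k n F ψ) :
    ψ.natDegree = d :=
  K847.HilbBasic.natDegree_eq k (isAmple_O1 k n) hF hd (isHilbPoly_of_HP hψ)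

theorem alpha_pos {F : (CohB1.ProjSpace n k).Modules} (hF : Coh.IsCoh F) {d : ℕ}
    (hd : topologicalKrullDim ↥(CohB1.support F) = (d : WithBot ℕ∞)) {ψ : ℚ[X]} (hψ : HP k n F ψ) :
    0 < alpha d ψ :=
  K847.HilbBasic.alpha_pos k (isAmple_O1 k n) hF hd (isHilbPoly_of_HP hψ)

theorem exists_nat_alpha {F : (CohB1.ProjSpace n k).Modules} (hF : Coh.IsCoh F) {d : ℕ}
    (hd : topologicalKrullDim ↥(CohB1.support F) = (d : WithBot ℕ∞)) {ψ : ℚ[X]} (hψ : HP k n F ψ) :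
    ∃ r : ℕ, alpha d ψ = r :=
  (gies k n).nat F ψ d hF (isHilbPoly_of_HP hψ) (natDegree_hp hF hd hψ).le

/-- The multiplicity of a submodule. -/
theorem alpha_le {E F : (CohB1.ProjSpace n k).Modules} (hE : Coh.IsCoh E) (hF : Coh.IsCoh F) (ι : F ⟶ E) [Mono ι]
    {d : ℕ} (hdE : topologicalKrullDim ↥(CohB1.support E) = (d : WithBot ℕ∞)) {ψ P : ℚ[X]} (hψ : HP k n F ψ)
    (hP : HP k n E P) : alpha d ψ ≤ alpha d P := by
  have hQ : Coh.IsCoh (cokernel ι) := Sga67.CohBasic.isCoh_cokernel ι hF.1 hE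
  have hS : (ShortComplex.mk ι (cokernel.π ι) (cokernel.condition ι)).ShortExact :=
    { exact := ShortComplex.exact_cokernel ι
      mono_f := inferInstance
      epi_g := inferInstance }
  have h1 := (facts k n).add _ hS hF hE hQ
  have hEq := hp_eq hE hP
  have hFq := hp_eq hF hψ
  have hd : P.natDegree ≤ d := (natDegree_hp hE hdE hP).le
  have hok : K849.Inst.ok (hp k n) d E := ⟨hE, by rw [hEq]; exact hd⟩
  have hok' : K849.Inst.ok (hp k n) d (cokernel ι) :=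
    (K849.Inst.setup (facts k n) 0 d).ok_coker ι
      ⟨hF, (K849.Inst.natDegree_le_of_mono (facts k n) ι hF hE).trans hok.2⟩ hok
  have h2 := K849.Inst.alpha_nonneg (facts k n) hok'
  have h3 : P = ψ + hp k n (cokernel ι) := by
    rw [← hEq, ← hFq]
    exact h1
  rw [h3]
  have h4 : alpha d (ψ + hp k n (cokernel ι)) = alpha d ψ + alpha d (hp k n (cokernel ι)) := by
    unfold alpha
    rw [coeff_add]
    ring
  rw [h4]
  linarith

/-- Vanishing of the higher cohomology of a regular module. -/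
theorem h0_eq_of_regular {F : (CohB1.ProjSpace n k).Modules} (hF : Coh.IsCoh F) {ψ : ℚ[X]} (hψ : HP k n F ψ)
    {N : ℤ} (h : Curv2.IsMRegular k n F N) : (Module.finrank k (H k n F N 0) : ℚ) = ψ.eval (N : ℚ) := by
  have hv : ∀ q : ℕ, 1 ≤ q → Subsingleton (H k n F N q) := fun q hq => by
    have := S1642.subsingleton_of_isMRegular hF.1 (isMRegular_ge hF h (t := N + q) (by omega)) q hq
    rwa [add_sub_cancel_right] at this
  have h1 := euler_eq (k := k) (n := n) (F := F) N fun q hq => hv q (by omega)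
  have := hv 1 le_rfl
  rw [← hψ N, h1, Module.finrank_zero_of_subsingleton (M := H k n F N 1)]
  push_cast
  ring

/-- The numerical properties of submodules of a semistable module. -/
theorem cls_of_sub {E : (CohB1.ProjSpace n k).Modules} {P : ℚ[X]} (hd : 1 ≤ P.natDegree) (hE : Coh.IsCoh E)
    (hP : HP k n E P) (hdE : topologicalKrullDim ↥(CohB1.support E) = (P.natDegree : WithBot ℕ∞))
    (hss : ∀ (G : (CohB1.ProjSpace n k).Modules) (ι : G ⟶ E), Mono ι → Coh.IsCoh G → ¬ IsZero G →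
        topologicalKrullDim ↥(CohB1.support G) = (P.natDegree : WithBot ℕ∞) ∧
        ∀ ψ : ℚ[X], HP k n G ψ → W4c2simpsonmod1.RedLE P.natDegree ψ P)
    (F : (CohB1.ProjSpace n k).Modules) (ι : F ⟶ E) (hι : Mono ι) (hF : Coh.IsCoh F) (hF0 : ¬ IsZero F)
    (ψ : ℚ[X]) (hψ : HP k n F ψ) :
    ∃ r' : ℕ, (r' : ℚ) ≤ W4c2simpsonmod1.rankOf P.natDegree P ∧ W4c2simpsonmod1.rankOf P.natDegree ψ = r' ∧
      Cls k n P.natDegree r' (W4c2simpsonmod1.slopeOf P.natDegree P) F ψ := by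
  obtain ⟨h1, h2⟩ := hss F ι hι hF hF0
  obtain ⟨r', hr'⟩ := exists_nat_alpha hF h1 hψ
  refine ⟨r', ?_, hr', hF, hψ, h1, hr'.le, fun G κ hκ hG hG0 => ?_⟩
  · rw [← hr', rankOf_eq]
    exact alpha_le hE hF ι hdE hψ hP
  · obtain ⟨h3, h4⟩ := hss G (κ ≫ ι) (mono_comp κ ι) hG hG0
    refine ⟨h3, fun χ hχ => ?_⟩
    have h5 := alpha_pos hG h3 hχ
    have h6 := alpha_pos hE hdE hP
    exact K847.PolyOrd.hatSlope_le_of_redLE hd (natDegree_hp hG h3 hχ).le le_rfl h5 h6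
      (redLE_of_W4 h5 h6 (h4 χ hχ))

end

/-- The Le Potier–Simpson inequality in positive dimension. -/
theorem lps {K : ∀ (k : Type u) [Field k], Prop} (n : ℕ) (P : ℚ[X]) (hd : 1 ≤ P.natDegree)
    (U : ∀ (r : ℕ) (b : ℚ) (P' : ℚ[X]), P'.natDegree ≤ P.natDegree → Unif K n P.natDegree r b P') :
    ∃ N₀ : ℤ, ∀ N : ℤ, N₀ ≤ N → ∀ (k : Type u) [Field k], K k → ∀ (E : (CohB1.ProjSpace n k).Modules), Coh.IsCoh E →
      HP k n E P →
      topologicalKrullDim ↥(CohB1.support E) = (P.natDegree : WithBot ℕ∞) →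
      (∀ (G : (CohB1.ProjSpace n k).Modules) (ι : G ⟶ E), Mono ι → Coh.IsCoh G → ¬ IsZero G →
        topologicalKrullDim ↥(CohB1.support G) = (P.natDegree : WithBot ℕ∞) ∧
        ∀ ψ : ℚ[X], HP k n G ψ → W4c2simpsonmod1.RedLE P.natDegree ψ P) →
      ∀ (F : (CohB1.ProjSpace n k).Modules) (ι : F ⟶ E), Mono ι → Coh.IsCoh F → ¬ IsZero F →
        ∀ ψ : ℚ[X], HP k n F ψ →
          ((Module.finrank k (H k n F N 0) : ℚ) / W4c2simpsonmod1.rankOf P.natDegree ψ <
              P.eval (N : ℚ) / W4c2simpsonmod1.rankOf P.natDegree P) ∨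
          (Curv2.IsMRegular k n F N ∧
            (Module.finrank k (H k n F N 0) : ℚ) / W4c2simpsonmod1.rankOf P.natDegree ψ =
              P.eval (N : ℚ) / W4c2simpsonmod1.rankOf P.natDegree P ∧
            ∀ m : ℤ, ψ.eval (m : ℚ) / W4c2simpsonmod1.rankOf P.natDegree ψ =
              P.eval (m : ℚ) / W4c2simpsonmod1.rankOf P.natDegree P) := by
  have key := fun r' : ℕ => U r' (W4c2simpsonmod1.slopeOf P.natDegree P)
    (((r' : ℚ) / W4c2simpsonmod1.rankOf P.natDegree P) • P) (Polynomial.natDegree_smul_le _ _)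
  choose N' hN' using key
  obtain ⟨R, hR⟩ := exists_nat_gt (W4c2simpsonmod1.rankOf P.natDegree P)
  obtain ⟨N₀, hN₀⟩ := ((Finset.range R).image N').exists_le
  refine ⟨N₀, fun N hN k _ hk E hE hP hdE hss F ι hι hF hF0 ψ hψ => ?_⟩
  obtain ⟨r', hr', hrk, hcls⟩ := cls_of_sub hd hE hP hdE hss F ι hι hF hF0 ψ hψ
  have hlt : r' < R := by exact_mod_cast lt_of_le_of_lt hr' hR
  have hNr : N' r' ≤ N := (hN₀ _ (Finset.mem_image_of_mem _ (Finset.mem_range.2 hlt))).trans hN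
  obtain ⟨h1, h2⟩ := hN' r' N hNr k hk F ψ hcls
  have hψ0 : 0 < W4c2simpsonmod1.rankOf P.natDegree ψ := alpha_pos hF hcls.dim hψ
  have hP0 : 0 < W4c2simpsonmod1.rankOf P.natDegree P := alpha_pos hE hdE hP
  have hr0 : (0 : ℚ) < r' := by rw [← hrk]; exact hψ0
  have hle : PolyLE ψ (((r' : ℚ) / W4c2simpsonmod1.rankOf P.natDegree P) • P) := by
    have h3 := polyLE_smul (polyLE_of_redLE ((hss F ι hι hF hF0).2 ψ hψ)) hr0.le
    rw [smul_smul, smul_smul, hrk, mul_inv_cancel₀ hr0.ne', one_smul] at h3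
    exact h3
  rcases polyLE_eq_or_lt hle with heq | hlt'
  · right
    have h3 := h1 heq
    refine ⟨h3, ?_, fun m => ?_⟩
    · rw [h0_eq_of_regular hF hψ h3, hrk, heq, eval_smul, smul_eq_mul]
      field_simp
    · rw [hrk]
      conv_lhs => rw [heq]
      rw [eval_smul, smul_eq_mul]
      field_simp
  · left
    have h3 := h2 hlt'
    rw [eval_smul, smul_eq_mul] at h3
    rw [hrk, div_lt_iff₀ hr0]
    calc _ < _ := h3
      _ = _ := by ring

end Groth.Agent.Coherent.K51.LPS
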