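import Groth.Agent.Pic13.H11.Transf
import Groth.Agent.CohqA.ClosedSub
import Groth.Agent.Sga67.ClosedPush
import Groth.Agent.Pic13.K244.Reg
import Groth.Agent.S4285
import Groth.Agent.Coherent.K51.LPS

/-!
# Transfer of the numerical invariants along `i : X ⟶ P^n_k`
-/

set_option autoImplicit false
universe u
open CategoryTheory CategoryTheory.Limits AlgebraicGeometry Polynomial

namespace Groth.Agent.Coherent.K51.Emb

open Groth.Agent Groth.Agent.VarietyB.EulerBinom StabCat K244.RegSeq Groth.Agent.Fga.PicMon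
open Groth.Agent.Coherent.K51.KlmPoly Groth.Agent.Coherent.K51.Klm Groth.Agent.Coherent.K51.HPDict
open Groth.Agent.Coherent.K51.LPS Groth.Agent.Pic13.H951.PresentX Groth.Agent.Pic13.H11 Groth.Agent.Pic13.H11.NumU

variable (k : Type u) [Field k] {X : Scheme.{u}} [X.Over (Spec (CommRingCat.of k))]

/-- A very ample module gives a closed immersion. -/
theorem exists_pn [IsProper (X ↘ Spec (CommRingCat.of k))] {L : X.Modules}
    (hva : RelAmple.IsRelVeryAmplePn (X ↘ Spec (CommRingCat.of k)) L) :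
    ∃ (n : ℕ) (i : X ⟶ CohB1.ProjSpace n k), IsClosedImmersion i ∧
      i ≫ CohB1.ProjSpace.toSpec n k = X ↘ Spec (CommRingCat.of k) ∧
        Nonempty ((Scheme.Modules.pullback i).obj (Twist.twistProjSpace n k 1) ≅ L) := by
  obtain ⟨n, i, hi, hs, ⟨e⟩⟩ := hva
  let c := Ega3A.PChart.chart n (𝟙 (Spec (CommRingCat.of k)))
  have hpb := Ega3A.PChart.isPullback_chart n (𝟙 (Spec (CommRingCat.of k)))
  have hc : IsIso c := hpb.isIso_fst_of_isIso
  have hcb : c ≫ CohB1.ProjSpaceOver.toBase n (Spec (CommRingCat.of k)) = CohB1.ProjSpace.toSpec n k := by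
    rw [Ega3A.PChart.chart_toBase, Category.comp_id]
  refine ⟨n, i ≫ inv c, ?_, ?_, ?_⟩
  · have hsep : IsProper (CohB1.ProjSpace.toSpec n k) := Ega3B.ProjProper.isProper_toSpec n k
    have h1 : IsImmersion (i ≫ inv c) := inferInstance
    have h2 : (i ≫ inv c) ≫ CohB1.ProjSpace.toSpec n k = X ↘ Spec (CommRingCat.of k) := by
      rw [← hcb, Category.assoc, IsIso.inv_hom_id_assoc]
      exact hs
    have : IsProper ((i ≫ inv c) ≫ CohB1.ProjSpace.toSpec n k) := by rw [h2]; infer_instance
    exact CalgB.ProjImm.isClosedImmersion_of_isImmersion_of_isProper (i ≫ inv c) (CohB1.ProjSpace.toSpec n k)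
  · rw [← hcb, Category.assoc, IsIso.inv_hom_id_assoc]
    exact hs
  · exact ⟨(Scheme.Modules.pullback (i ≫ inv c)).mapIso
      (Ega3A.PChart.chartTwistIso n (𝟙 (Spec (CommRingCat.of k))) 1).symm ≪≫
      (Scheme.Modules.pullbackComp (i ≫ inv c) c).app _ ≪≫
      (Scheme.Modules.pullbackCongr (by simp)).app _ ≪≫ e.symm⟩

variable {k} {n : ℕ} (i : X ⟶ CohB1.ProjSpace n k)

omit [X.Over (Spec (CommRingCat.of k))] in
theorem nonempty_twist {L : X.Modules}
    (e : (Scheme.Modules.pullback i).obj (Twist.twistProjSpace n k 1) ≅ L) (F : X.Modules) (m : ℕ) :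
    Nonempty (_root_.Pic13.twistOn k i F (m : ℤ) ≅ ShStab.twist X L F m) := by
  rw [← mc_eq_iff]
  unfold _root_.Pic13.twistOn ShStab.twist
  rw [mc_tensor, mc_tensor, mc_tensorPow]
  have h1 : mc ((Scheme.Modules.pullback i).obj (Twist.twistProjSpace n k (m : ℤ))) =
      ((pullU i (Groth.Agent.Pic13.H11.Emb.twistU k n 1) ^ m : (MC X)ˣ) : MC X) := by
    rw [← pullU_unit_val i (Sga67.SerreVB.isInvertible_twist n k (m : ℤ)), ← map_pow, ← zpow_natCast,
      ← Groth.Agent.Pic13.H11.Emb.twistU_eq]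
    rfl
  have h2 : ((pullU i (Groth.Agent.Pic13.H11.Emb.twistU k n 1) : (MC X)ˣ) : MC X) = mc L := by
    rw [Groth.Agent.Pic13.H11.Emb.twistU, pullU_unit_val]
    exact mc_eq e
  rw [h1, Units.val_pow_eq_pow_val, h2]

variable [IsClosedImmersion i] (hi : i ≫ CohB1.ProjSpace.toSpec n k = X ↘ Spec (CommRingCat.of k))

include hi in
theorem nonempty_HH {L : X.Modules}
    (e : (Scheme.Modules.pullback i).obj (Twist.twistProjSpace n k 1) ≅ L) (F : X.Modules) (m q : ℕ) :
    Nonempty (Coh.HH X (ShStab.twist X L F m) q ≃ₗ[k]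
      H k n ((Scheme.Modules.pushforward i).obj F) (m : ℤ) q) := by
  obtain ⟨e'⟩ := nonempty_twist i e F m
  exact ⟨(hmapEquiv k X e'.symm q).trans
    ((CurvesC.CurveNum.hhPushₗ k i hi (_root_.Pic13.twistOn k i F (m : ℤ)) q).trans
    (hmapEquiv k (CohB1.ProjSpace n k) (pushTwist k i F (m : ℤ)) q))⟩

include hi in
theorem finrank_HH {L : X.Modules}
    (e : (Scheme.Modules.pullback i).obj (Twist.twistProjSpace n k 1) ≅ L) (F : X.Modules) (m q : ℕ) :
    Module.finrank k (Coh.HH X (ShStab.twist X L F m) q) =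
      Module.finrank k (H k n ((Scheme.Modules.pushforward i).obj F) (m : ℤ) q) := by
  obtain ⟨E⟩ := nonempty_HH i hi e F m q
  exact E.finrank_eq

include hi in
theorem euler_eq {L : X.Modules}
    (e : (Scheme.Modules.pullback i).obj (Twist.twistProjSpace n k 1) ≅ L) (F : X.Modules) (m : ℕ) :
    Curv2.euler k X (ShStab.twist X L F m) = Curv2.euler k (CohB1.ProjSpace n k)
      (CohB1.tensorMod ((Scheme.Modules.pushforward i).obj F) (Twist.twistProjSpace n k (m : ℤ))) := by
  unfold Curv2.euler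
  refine finsum_congr fun q => ?_
  rw [finrank_HH i hi e F m q]

include hi in
/-- Hilbert polynomials. -/
theorem isHilbPoly_iff {L : X.Modules}
    (e : (Scheme.Modules.pullback i).obj (Twist.twistProjSpace n k 1) ≅ L) {F : X.Modules} (hF : Coh.IsCoh F)
    {P : ℚ[X]} :
    ShStab.IsHilbPoly k X L F P ↔ HP k n ((Scheme.Modules.pushforward i).obj F) P := by
  rw [HP_iff (isCoh_push k i hF)]
  refine forall_congr' fun m => ?_
  rw [euler_eq i hi e F m, HPDict.euler_twist]

omit [X.Over (Spec (CommRingCat.of k))] in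
/-- Dimensions of supports. -/
theorem dim_support_push (F : X.Modules) :
    topologicalKrullDim ↥(CohB1.support ((Scheme.Modules.pushforward i).obj F)) =
      topologicalKrullDim ↥(CohB1.support F) := by
  rw [Sga67.ClosedPush.support_pushforward]
  have he : Topology.IsEmbedding i := i.isClosedEmbedding.isEmbedding
  exact (IsHomeomorph.topologicalKrullDim_eq _ (he.homeomorphImage (CohB1.support F)).isHomeomorph).symm

omit [X.Over (Spec (CommRingCat.of k))] in
theorem isZero_push_iff (F : X.Modules) : IsZero ((Scheme.Modules.pushforward i).obj F) ↔ IsZero F := by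
  constructor
  · intro h
    exact IsZero.of_iso ((Scheme.Modules.pullback i).map_isZero h) (counitIso k i F).symm
  · intro h
    exact (Scheme.Modules.pushforward i).map_isZero h

omit [X.Over (Spec (CommRingCat.of k))] in
/-- Coherent submodules of `i_* E`. -/
theorem forall_sub {E : X.Modules} {Q : (CohB1.ProjSpace n k).Modules → Prop}
    (hQ : ∀ G G' : (CohB1.ProjSpace n k).Modules, (G ≅ G') → Q G → Q G')
    (h : ∀ (G : X.Modules) (ι : G ⟶ E), Mono ι → Coh.IsCoh G → ¬ IsZero G →
      Q ((Scheme.Modules.pushforward i).obj G))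
    (G : (CohB1.ProjSpace n k).Modules) (ι : G ⟶ (Scheme.Modules.pushforward i).obj E) (hι : Mono ι)
    (hG : Coh.IsCoh G) (hG0 : ¬ IsZero G) : Q G := by
  obtain ⟨G', ι', hι', e, -⟩ := CohqA.ClosedSub.exists_sub_of_mono i ι
  have h1 : Coh.IsCoh ((Scheme.Modules.pushforward i).obj G') := Sga67.CohBasic.isCoh_of_iso e hG
  have h2 : Coh.IsCoh G' :=
    Sga67.CohBasic.isCoh_of_iso (counitIso k i G') (FormalA.PullbackQC.isCoh_pullback i _ h1)
  refine hQ _ _ e.symm (h G' ι' hι' h2 fun h0 => hG0 ?_)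
  exact IsZero.of_iso ((isZero_push_iff i G').2 h0) e

theorem HP_iso {F G : (CohB1.ProjSpace n k).Modules} (e : F ≅ G) {P : ℚ[X]} (h : HP k n F P) : HP k n G P :=
  fun m => by
    rw [← h m]
    exact_mod_cast (euler_iso k n ((DCoh.tensorRightMod (Twist.twistProjSpace n k m)).mapIso e)).symm

theorem dim_iso {F G : (CohB1.ProjSpace n k).Modules} (e : F ≅ G) :
    topologicalKrullDim ↥(CohB1.support F) = topologicalKrullDim ↥(CohB1.support G) := by
  rw [VarietyA.StalkCrit.support_eq_of_iso e]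

end Groth.Agent.Coherent.K51.Emb
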