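import Groth.Agent.ShStab.K849.PolyOrd

/-!
# Numerical lemmas: eventual comparison of rational polynomials at integers, backward differences
-/

set_option autoImplicit false

open Polynomial StabCat K849.PolyOrd

namespace Groth.Agent.Coherent.K51.KlmPoly

/-- The backward difference. -/
noncomputable def bd (P : ℚ[X]) : ℚ[X] := P - P.comp (X - C 1)

@[simp] lemma eval_bd (P : ℚ[X]) (t : ℚ) : (bd P).eval t = P.eval t - P.eval (t - 1) := by
  simp [bd]

lemma bd_sub (P Q : ℚ[X]) : bd (P - Q) = bd P - bd Q := by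
  simp only [bd, sub_comp]
  ring

/-- Polynomials agreeing at all natural numbers are equal. -/
lemma ext_nat {P Q : ℚ[X]} (h : ∀ m : ℕ, P.eval (m : ℚ) = Q.eval (m : ℚ)) : P = Q := by
  apply Polynomial.eq_of_infinite_eval_eq
  refine Set.Infinite.mono (s := Set.range (fun m : ℕ => (m : ℚ))) ?_ (Set.infinite_range_of_injective Nat.cast_injective)
  rintro _ ⟨m, rfl⟩
  exact h m

lemma ext_int {P Q : ℚ[X]} (h : ∀ m : ℤ, P.eval (m : ℚ) = Q.eval (m : ℚ)) : P = Q :=
  ext_nat fun m => by simpa using h m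

lemma exists_int_of_polyLT {P Q : ℚ[X]} (h : PolyLT P Q) :
    ∃ N : ℤ, ∀ m : ℤ, N ≤ m → P.eval (m : ℚ) < Q.eval (m : ℚ) := by
  obtain ⟨N, hN⟩ := h
  refine ⟨N, fun m hm => ?_⟩
  obtain ⟨m, rfl⟩ := Int.eq_ofNat_of_zero_le (le_trans (Int.natCast_nonneg N) hm)
  have := hN m (by exact_mod_cast hm)
  simpa using this

lemma polyLT_of_int {P Q : ℚ[X]} (N : ℤ) (h : ∀ m : ℤ, N ≤ m → P.eval (m : ℚ) < Q.eval (m : ℚ)) :
    PolyLT P Q := by
  refine ⟨N.toNat, fun m hm => ?_⟩
  have := h m (by omega)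
  simpa using this

lemma exists_int_of_polyLE {P Q : ℚ[X]} (h : PolyLE P Q) :
    ∃ N : ℤ, ∀ m : ℤ, N ≤ m → P.eval (m : ℚ) ≤ Q.eval (m : ℚ) := by
  obtain ⟨N, hN⟩ := h
  refine ⟨N, fun m hm => ?_⟩
  obtain ⟨m, rfl⟩ := Int.eq_ofNat_of_zero_le (le_trans (Int.natCast_nonneg N) hm)
  have := hN m (by exact_mod_cast hm)
  simpa using this

lemma polyLE_of_int {P Q : ℚ[X]} (N : ℤ) (h : ∀ m : ℤ, N ≤ m → P.eval (m : ℚ) ≤ Q.eval (m : ℚ)) :
    PolyLE P Q := by
  refine ⟨N.toNat, fun m hm => ?_⟩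
  have := h m (by omega)
  simpa using this

/-- A common denominator of the values at integers. -/
lemma exists_den (P : ℚ[X]) : ∃ D : ℕ, 0 < D ∧ ∀ m : ℤ, ∃ z : ℤ, (D : ℚ) * P.eval (m : ℚ) = z := by
  induction P using Polynomial.induction_on' with
  | add P Q hP hQ =>
    obtain ⟨D, hD, h⟩ := hP
    obtain ⟨D', hD', h'⟩ := hQ
    refine ⟨D * D', Nat.mul_pos hD hD', fun m => ?_⟩
    obtain ⟨z, hz⟩ := h m
    obtain ⟨z', hz'⟩ := h' m
    refine ⟨D' * z + D * z', ?_⟩
    rw [eval_add]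
    push_cast
    rw [← hz, ← hz']
    ring
  | monomial i a =>
    refine ⟨a.den, a.den_pos, fun m => ⟨a.num * m ^ i, ?_⟩⟩
    rw [eval_monomial]
    push_cast
    rw [← mul_assoc, mul_comm (a.den : ℚ) a, Rat.mul_den_eq_num]

/-- An integer less than a value is less by at least the inverse of the denominator. -/
lemma gap {x : ℚ} {D : ℕ} (hD : 0 < D) {z : ℤ} (hz : (D : ℚ) * x = z) (a : ℤ) (h : (a : ℚ) < x) :
    (a : ℚ) + 1 / D ≤ x := by
  have hD' : (0 : ℚ) < D := by exact_mod_cast hD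
  have h1 : ((D * a : ℤ) : ℚ) < z := by
    rw [← hz]
    push_cast
    exact mul_lt_mul_of_pos_left h hD'
  have h2 : (D * a : ℤ) + 1 ≤ z := by exact_mod_cast h1
  have h3 : ((D : ℚ) * a + 1) ≤ D * x := by
    rw [hz]
    exact_mod_cast h2
  have h4 : (a : ℚ) + 1 / D = (D * a + 1) / D := by
    field_simp
  rw [h4, div_le_iff₀ hD']
  linarith

/-- The backward difference of an eventually positive polynomial. -/
lemma bd_cases {D : ℚ[X]} (h : PolyLT 0 D) : PolyLT 0 (bd D) ∨ ∃ c : ℚ, 0 < c ∧ D = C c := by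
  rcases leadingCoeff_cases (bd D) with h0 | h0 | h0
  · right
    have h1 : ∀ m : ℕ, D.eval (m : ℚ) = D.eval 0 := by
      intro m
      induction m with
      | zero => simp
      | succ m ih =>
        have := congrArg (Polynomial.eval ((m + 1 : ℕ) : ℚ)) h0
        rw [eval_bd, eval_zero, sub_eq_zero] at this
        rw [this, ← ih]
        congr 1
        push_cast
        ring
    have h2 : D = C (D.eval 0) := ext_nat fun m => by rw [h1 m, eval_C]
    refine ⟨D.eval 0, ?_, h2⟩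
    obtain ⟨N, hN⟩ := h
    have := hN N le_rfl
    rw [h1 N, eval_zero] at this
    exact this
  · exact Or.inl (polyLT_zero_of_leadingCoeff_pos h0)
  · exfalso
    obtain ⟨N, hN⟩ := exists_int_of_polyLT (polyLT_zero_of_leadingCoeff_pos h0)
    obtain ⟨N', hN'⟩ := exists_int_of_polyLT h
    obtain ⟨d, hd, hz⟩ := exists_den (-bd D)
    have hd' : (0 : ℚ) < d := by exact_mod_cast hd
    have key : ∀ j : ℕ, D.eval (((N + j : ℤ)) : ℚ) ≤ D.eval (N : ℚ) - j / d := by
      intro j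
      induction j with
      | zero => simp
      | succ j ih =>
        obtain ⟨z, hz⟩ := hz (N + ((j + 1 : ℕ) : ℤ))
        have h1 := gap hd hz 0 (by
          have := hN (N + ((j + 1 : ℕ) : ℤ)) (by omega)
          simpa using this)
        rw [eval_neg, eval_bd] at h1
        have h2 : ((N + ((j + 1 : ℕ) : ℤ) : ℤ) : ℚ) - 1 = ((N + (j : ℤ) : ℤ) : ℚ) := by push_cast; ring
        rw [h2] at h1
        have h3 : (((j + 1 : ℕ) : ℚ)) / d = j / d + 1 / d := by push_cast; ring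
        rw [h3]
        push_cast at h1 ih ⊢
        linarith
    obtain ⟨j, hj⟩ := exists_nat_gt (D.eval (N : ℚ) * d)
    have h1 := key (j + (N' - N).toNat)
    have h2 := hN' (N + ((j + (N' - N).toNat : ℕ) : ℤ)) (by omega)
    rw [eval_zero] at h2
    have h3 : D.eval (N : ℚ) < (j : ℚ) / d := by rwa [lt_div_iff₀ hd']
    have h4 : (j : ℚ) / d ≤ ((j + (N' - N).toNat : ℕ) : ℚ) / d := by
      apply div_le_div_of_nonneg_right _ hd'.le
      push_cast
      have : (0 : ℚ) ≤ ((N' - N).toNat : ℚ) := Nat.cast_nonneg _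
      linarith
    linarith

end Groth.Agent.Coherent.K51.KlmPoly
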