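import Groth.Agent.Pic13.K244.RegSeq
import Groth.Agent.Coherent.K51.KlmPoly

/-!
# Hilbert polynomials (integer twists) on projective space
-/

set_option autoImplicit false
universe u
open CategoryTheory CategoryTheory.Limits AlgebraicGeometry Polynomial

namespace Groth.Agent.Coherent.K51.Klm

open K244.RegSeq Groth.Agent Groth.Agent.VarietyA.EulerLES Groth.Agent.VarietyB.EulerBinom StabCat
open Groth.Agent.Coherent.K51.KlmPoly

section
variable (k : Type u) [Field k] (n : ℕ)

/-- Hilbert polynomial (all integers). -/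
def HP (E : (CohB1.ProjSpace n k).Modules) (P : ℚ[X]) : Prop :=
  ∀ m : ℤ, (Curv2.euler k (CohB1.ProjSpace n k) (CohB1.tensorMod E (Twist.twistProjSpace n k m)) : ℚ) =
    P.eval (m : ℚ)

end

variable {k : Type u} [Field k] {n : ℕ}

theorem HP.unique {E : (CohB1.ProjSpace n k).Modules} {P Q : ℚ[X]} (hP : HP k n E P) (hQ : HP k n E Q) : P = Q :=
  ext_int fun m => (hP m).symm.trans (hQ m)

/-- `χ = h⁰ - h¹` if the higher groups vanish. -/
theorem euler_eq {F : (CohB1.ProjSpace n k).Modules} (t : ℤ) (h : ∀ q : ℕ, 2 ≤ q → Subsingleton (H k n F t q)) :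
    Curv2.euler k (CohB1.ProjSpace n k) (CohB1.tensorMod F (Twist.twistProjSpace n k t)) =
      (Module.finrank k (H k n F t 0) : ℤ) - Module.finrank k (H k n F t 1) := by
  unfold Curv2.euler
  rw [finsum_eq_sum_of_support_subset (s := Finset.range 2)]
  · rw [Finset.sum_range_succ, Finset.sum_range_one]
    ring
  · intro i hi
    rw [Function.mem_support] at hi
    rw [Finset.coe_range, Set.mem_Iio]
    by_contra h2
    apply hi
    have := h i (by omega)
    rw [Module.finrank_zero_of_subsingleton]
    simp

end Groth.Agent.Coherent.K51.Klm
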