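import Groth.Agent.ShStab.K846.Facts
import Groth.Agent.ShStab.K849.InstMu
import Groth.Agent.ShStab.K849.FromGies
import Groth.Agent.Gaga.H883.Serre
import Groth.Agent.VarietyA.AmpleField
import Groth.Agent.Coherent.K51.Klm

/-!
# Hilbert polynomials on projective space: integer twists and natural twists
-/

set_option autoImplicit false
universe u
open CategoryTheory CategoryTheory.Limits AlgebraicGeometry Polynomial

namespace Groth.Agent.Coherent.K51.HPDict

open Groth.Agent Groth.Agent.VarietyB.EulerBinom StabCat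
open Groth.Agent.Coherent.K51.KlmPoly Groth.Agent.Coherent.K51.Klm

variable (k : Type u) [Field k] (n : ℕ)

/-- `O(1)`. -/
noncomputable abbrev O1 : (CohB1.ProjSpace n k).Modules := Twist.twistProjSpace n k 1

theorem isAmple_O1 : CohB1.IsAmple (O1 k n) := VarietyA.AmpleField.isAmple_twistProjSpace n k

theorem gies : K846.Gies.HilbFacts k (CohB1.ProjSpace n k) (O1 k n) :=
  K846.Facts.hilbFacts k (isAmple_O1 k n)

/-- The Hilbert polynomial. -/
noncomputable abbrev hp (F : (CohB1.ProjSpace n k).Modules) : ℚ[X] := K846.Gies.hp k (O1 k n) F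

theorem facts : K849.Inst.HilbFacts k (CohB1.ProjSpace n k) (O1 k n) (hp k n) :=
  K849.FromGies.hilbFacts (gies k n)

variable {k n}

theorem euler_twist (F : (CohB1.ProjSpace n k).Modules) (m : ℕ) :
    Curv2.euler k (CohB1.ProjSpace n k) (ShStab.twist _ (O1 k n) F m) =
      Curv2.euler k (CohB1.ProjSpace n k) (CohB1.tensorMod F (Twist.twistProjSpace n k m)) := by
  obtain ⟨e⟩ := Gaga.H883.Serre.O_nat (R := k) (n := n) m
  obtain ⟨e'⟩ : Nonempty (ShStab.twist _ (O1 k n) F m ≅
      CohB1.tensorMod F (Twist.twistProjSpace n k (m : ℤ))) := by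
    rw [← Fga.PicMon.mc_eq_iff]
    unfold ShStab.twist
    rw [Fga.PicMon.mc_tensor, Fga.PicMon.mc_tensor, Fga.PicMon.mc_eq e]
  exact euler_iso k n e'

theorem isHilbPoly_of_HP {F : (CohB1.ProjSpace n k).Modules} {P : ℚ[X]} (h : HP k n F P) :
    ShStab.IsHilbPoly k (CohB1.ProjSpace n k) (O1 k n) F P := by
  intro m
  rw [euler_twist]
  have := h m
  simpa using this

theorem euler_tw_tw (F : (CohB1.ProjSpace n k).Modules) (a b : ℤ) :
    Curv2.euler k (CohB1.ProjSpace n k) (CohB1.tensorMod (CohB1.tensorMod F (Twist.twistProjSpace n k a))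
      (Twist.twistProjSpace n k b)) =
    Curv2.euler k (CohB1.ProjSpace n k) (CohB1.tensorMod F (Twist.twistProjSpace n k (a + b))) := by
  obtain ⟨e⟩ := Sga67.SerreVB.nonempty_tw_tw n k a b F
  exact euler_iso k n e

theorem HP_of_isHilbPoly {F : (CohB1.ProjSpace n k).Modules} (hF : Coh.IsCoh F) {P : ℚ[X]}
    (h : ShStab.IsHilbPoly k (CohB1.ProjSpace n k) (O1 k n) F P) : HP k n F P := by
  have h0 : ∀ m : ℕ, (Curv2.euler k (CohB1.ProjSpace n k) (CohB1.tensorMod F (Twist.twistProjSpace n k m)) : ℚ) =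
      P.eval (m : ℚ) := fun m => by rw [← euler_twist]; exact h m
  intro m
  rcases le_or_gt 0 m with hm | hm
  · obtain ⟨m, rfl⟩ := Int.eq_ofNat_of_zero_le hm
    simpa using h0 m
  · obtain ⟨a, ha⟩ : ∃ a : ℕ, m = -(a : ℤ) := ⟨(-m).toNat, by omega⟩
    subst ha
    obtain ⟨Q, hQ⟩ := (gies k n).ex _ (isCoh_tensor_twist k n hF (-(a : ℤ)))
    have h1 : Q = P.comp (X - C (a : ℚ)) := by
      apply Polynomial.eq_of_infinite_eval_eq
      refine Set.Infinite.mono (s := Set.range (fun t : ℕ => ((t + a : ℕ) : ℚ))) ?_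
        (Set.infinite_range_of_injective fun x y hxy => by
          have : x + a = y + a := by exact_mod_cast hxy
          omega)
      rintro _ ⟨t, rfl⟩
      change Q.eval _ = (P.comp (X - C (a : ℚ))).eval _
      rw [← hQ (t + a), euler_twist, euler_tw_tw, eval_comp, eval_sub, eval_X, eval_C]
      have e1 : (-(a : ℤ)) + ((t + a : ℕ) : ℤ) = (t : ℤ) := by push_cast; ring
      rw [e1, h0 t]
      congr 1
      push_cast
      ring
    have h2 := hQ 0
    rw [euler_twist, euler_tw_tw, h1, eval_comp, eval_sub, eval_X, eval_C] at h2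
    have e2 : (-(a : ℤ)) + ((0 : ℕ) : ℤ) = -(a : ℤ) := by simp
    rw [e2] at h2
    rw [h2]
    congr 1
    push_cast
    ring

theorem HP_iff {F : (CohB1.ProjSpace n k).Modules} (hF : Coh.IsCoh F) {P : ℚ[X]} :
    HP k n F P ↔ ShStab.IsHilbPoly k (CohB1.ProjSpace n k) (O1 k n) F P :=
  ⟨isHilbPoly_of_HP, HP_of_isHilbPoly hF⟩

theorem HP_hp {F : (CohB1.ProjSpace n k).Modules} (hF : Coh.IsCoh F) : HP k n F (hp k n F) :=
  HP_of_isHilbPoly hF ((facts k n).spec F hF)

theorem hp_eq {F : (CohB1.ProjSpace n k).Modules} (hF : Coh.IsCoh F) {P : ℚ[X]} (h : HP k n F P) :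
    hp k n F = P := (HP_hp hF).unique h

theorem exists_HP {F : (CohB1.ProjSpace n k).Modules} (hF : Coh.IsCoh F) : ∃ P : ℚ[X], HP k n F P :=
  ⟨_, HP_hp hF⟩

end Groth.Agent.Coherent.K51.HPDict
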