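import Groth.Agent.Coherent.K52.KClass
import Groth.Agent.Fga.MumFinal
import Groth.Agent.Coherent.K51.KlmPoly

/-!
# The Kleiman criterion and the Le Potier–Simpson alternative for graded systems

For a graded system `S` in the class `Kc Cs`, with `χ(S(r)) = Q(r)`, and a polynomial `P` of degree at most the
length of `Cs`: there is `N₀` dependent on `P` and `Cs` only such that for all `N ≥ N₀`: if `Q = P` then `S` is
`N`-regular, and if `Q < P` eventually then `h⁰(S(N)) < P(N)`.
-/

set_option autoImplicit false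
universe u
open CategoryTheory CategoryTheory.Limits Polynomial

namespace Groth.Agent.Coherent.K51.KlmSys

open Groth.Agent.Fga.MumSys Groth.Agent.Fga.MumSES Groth.Agent.Fga.MumLES Groth.Agent.Fga.MumCast
  Groth.Agent.Fga.MumFinal Groth.Agent.Fga.MumBound StabCat
open Groth.Agent.Coherent.K51.KlmPoly K52.Tower K52.KClass

section Step

variable {n : ℕ} {K : Type u} [Field K] (S : Sys (n + 1) K) (a : Fin (n + 1) → K)
  (hm : ∀ (r s : ℤ) (h : r + 1 = s) (p : ℕ), Mono ((S.lin a r s h).f p))

include hm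

/-- The short exact sequence of a section. -/
theorem ses' (r s : ℤ) (h : r + 1 = s) :
    (ShortComplex.mk (S.lin a r s h) (quotπ S a s) (lin_quotπ S a r s h)).ShortExact :=
  shortExact_quot a S hm r s h

theorem serre_quot (h : Serre S) : Serre (quot' S a) := by
  obtain ⟨r₀, hr₀⟩ := h
  exact ⟨r₀ + 1, fun r hr i hi => sub₃ (ses' S a hm (r - 1) r (by ring)) i (hr₀ r (by omega) i hi)
    (hr₀ (r - 1) (by omega) (i + 1) (by omega))⟩

theorem finite_quot (h : ∀ i r, Module.Finite K ((S.C r).homology i)) (i : ℕ) (r : ℤ) :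
    Module.Finite K (((quot' S a).C r).homology i) :=
  fin₃ (ses' S a hm (r - 1) r (by ring)) i (h i r) (h (i + 1) (r - 1))

theorem chi_quot (hs : Serre S) (h : ∀ i r, Module.Finite K ((S.C r).homology i)) (r : ℤ) :
    chi (n + 1) ((quot' S a).C r) = chi (n + 1) (S.C r) - chi (n + 1) (S.C (r - 1)) := by
  have := chi_add (ses' S a hm (r - 1) r (by ring)) (n + 1) (fun i => h i (r - 1)) (fun i => h i r)
    (van_top (n + 1) K S hs (n + 1 + 1) (r - 1) (by omega) (by omega))
  change chi (n + 1) (S.C r) = chi (n + 1) (S.C (r - 1)) + chi (n + 1) ((quot' S a).C r) at this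
  rw [this]
  ring

theorem h0_le (h : ∀ i r, Module.Finite K ((S.C r).homology i)) (r : ℤ) :
    Module.finrank K ((S.C r).homology 0) ≤ Module.finrank K ((S.C (r - 1)).homology 0) +
      Module.finrank K (((quot' S a).C r).homology 0) := by
  have h1 := h 0 r
  have h2 := h 0 (r - 1)
  have h3 : Module.Finite K ((quotC S a r).homology 0) := finite_quot S a hm h 0 r
  have e := exact_finrank _ _ (ex₂ (ses' S a hm (r - 1) r (by ring)) 0)
  have e1 := LinearMap.finrank_range_le (Hmap (S.lin a (r - 1) r (by ring)) 0)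
  have e2 := Submodule.finrank_le (LinearMap.range (Hmap (quotπ S a r) 0))
  change Module.finrank K ((S.C r).homology 0) =
    Module.finrank K (LinearMap.range (Hmap (S.lin a (r - 1) r (by ring)) 0)) +
    Module.finrank K (LinearMap.range (Hmap (quotπ S a r) 0)) at e
  change Module.finrank K (LinearMap.range (Hmap (quotπ S a r) 0)) ≤
    Module.finrank K (((quot' S a).C r).homology 0) at e2
  omega

theorem van_two' (hs : Serre S) {μ : ℤ} (hV : Van (quot' S a) μ) (i : ℕ) (hi : 2 ≤ i) (r : ℤ)
    (hr : μ - i ≤ r) : Subsingleton ((S.C r).homology i) := by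
  obtain ⟨r₀, hr₀⟩ := hs
  obtain ⟨k, hk⟩ : ∃ k : ℕ, r₀ ≤ r + k := ⟨(r₀ - r).toNat, by omega⟩
  induction k generalizing r with
  | zero => exact hr₀ r (by simpa using hk) i (by omega)
  | succ k ih =>
    obtain ⟨i, rfl⟩ : ∃ j, i = j + 1 := ⟨i - 1, by omega⟩
    refine sub₁ (ses' S a hm r (r + 1) rfl) i (hV i (r + 1) (by omega) ?_) (ih (r + 1) ?_ ?_)
    · push_cast at hr; omega
    · push_cast at hr ⊢; omega
    · push_cast at hk; omega

theorem H1_surj' {μ : ℤ} (hV : Van (quot' S a) μ) (r s : ℤ) (h : r + 1 = s) (hr : μ - 1 ≤ s) :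
    Function.Surjective (Hmap (S.lin a r s h) 1) :=
  surj_f (ses' S a hm r s h) 1 (hV 1 s le_rfl (by simpa using hr))

omit hm in
theorem surj_persist' {μ : ℤ} (hG : GenBy (quot' S a) μ) (r s : ℤ) (h : r + 1 = s) (hr : μ ≤ r)
    (hs : Function.Surjective (Hmap (quotπ S a r) 0)) :
    Function.Surjective (Hmap (quotπ S a s) 0) := by
  rw [← LinearMap.range_eq_top, eq_top_iff]
  refine le_trans (hG r s h hr).ge ?_
  refine iSup_le fun j => ?_
  rintro _ ⟨w, rfl⟩
  obtain ⟨w, rfl⟩ := hs w
  refine ⟨Hmap (S.x j r s h) 0 w, ?_⟩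
  have := congrArg (fun f => Hmap f 0 w) (quotπ_quotx S a j r s h)
  simp only [Hmap, HomologicalComplex.homologyMap_comp] at this
  exact this.symm

theorem H1_zero_of_surj' (hs : Serre S) {μ : ℤ} (hG : GenBy (quot' S a) μ) (r s : ℤ) (h : r + 1 = s)
    (hr : μ ≤ s) (hsur : Function.Surjective (Hmap (quotπ S a s) 0)) :
    Subsingleton ((S.C r).homology 1) := by
  obtain ⟨r₀, hr₀⟩ := hs
  obtain ⟨k, hk⟩ : ∃ k : ℕ, r₀ ≤ r + k := ⟨(r₀ - r).toNat, by omega⟩
  induction k generalizing r s with
  | zero => exact hr₀ r (by simpa using hk) 1 le_rfl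
  | succ k ih =>
    have h1 := ih s (s + 1) rfl (by omega) (surj_persist' S a hG s (s + 1) rfl hr hsur)
      (by push_cast at hk; omega)
    have h2 : Function.Injective (Hmap (S.lin a r s h) 1) := (surj_g_iff (ses' S a hm r s h) 0).1 hsur
    exact h2.subsingleton

/-- `h¹` drops. -/
theorem H1_drop' (hs : Serre S) (hf : ∀ i r, Module.Finite K ((S.C r).homology i)) {μ : ℤ}
    (hV : Van (quot' S a) μ) (hG : GenBy (quot' S a) μ) (r s : ℤ) (h : r + 1 = s) (hr : μ ≤ s) :
    Module.finrank K ((S.C s).homology 1) < Module.finrank K ((S.C r).homology 1) ∨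
      (Subsingleton ((S.C r).homology 1) ∧ Subsingleton ((S.C s).homology 1)) := by
  have h1 := hf 1 r
  have h2 := hf 1 s
  have hsurj := H1_surj' S a hm hV r s h (by omega)
  by_cases h0 : Subsingleton ((S.C r).homology 1)
  · exact Or.inr ⟨h0, hsurj.subsingleton⟩
  refine Or.inl ?_
  have hns : ¬ Function.Injective (Hmap (S.lin a r s h) 1) := by
    intro hinj
    exact h0 (H1_zero_of_surj' S a hm hs hG r s h hr ((surj_g_iff (ses' S a hm r s h) 0).2 hinj))
  by_contra hcon
  push Not at hcon
  have hle := LinearMap.finrank_le_finrank_of_surjective hsurj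
  have heq : Module.finrank K ((S.C r).homology 1) = Module.finrank K ((S.C s).homology 1) :=
    le_antisymm hcon hle
  exact hns ((LinearMap.injective_iff_surjective_of_finrank_eq_finrank heq).2 hsurj)

theorem H1_add (hs : Serre S) (hf : ∀ i r, Module.Finite K ((S.C r).homology i)) {μ : ℤ}
    (hV : Van (quot' S a) μ) (hG : GenBy (quot' S a) μ) (j : ℕ) :
    Module.finrank K ((S.C (μ + j)).homology 1) ≤ Module.finrank K ((S.C μ).homology 1) - j := by
  induction j with
  | zero =>
    have h0 : μ + ((0 : ℕ) : ℤ) = μ := by simp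
    rw [h0, Nat.sub_zero]
  | succ j ih =>
    rcases H1_drop' S a hm hs hf hV hG (μ + j) (μ + ((j + 1 : ℕ) : ℤ)) (by push_cast; ring) (by omega) with h1 | ⟨-, h1⟩
    · omega
    · rw [Module.finrank_zero_of_subsingleton]
      omega

end Step

theorem Reg.mono {m : ℕ} {K : Type u} [Field K] {S : Sys m K} {μ ν : ℤ} (h : Reg S μ) (hle : μ ≤ ν) : Reg S ν :=
  fun i hi => (castelnuovo m K S μ h).1 i (ν - i) hi (by omega)

/-- `h⁰ = χ` for regular systems. -/
theorem h0_eq_chi {m : ℕ} {K : Type u} [Field K] {S : Sys m K} {μ : ℤ} (h : Reg S μ) (n : ℕ) (r : ℤ)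
    (hr : μ - 1 ≤ r) : (Module.finrank K ((S.C r).homology 0) : ℤ) = chi n (S.C r) := by
  have hv : ∀ i : ℕ, 1 ≤ i → Subsingleton ((S.C r).homology i) := fun i hi =>
    (castelnuovo m K S μ h).1 i r hi (by omega)
  have hn : ∀ i : ℕ, 0 < i → Subsingleton ((S.C r).homology i) := fun i hi => hv i hi
  unfold chi
  rw [Finset.sum_range_succ', Finset.sum_eq_zero]
  · simp
  · intro i _
    have := hv (i + 1) (by omega)
    rw [Module.finrank_zero_of_subsingleton]
    simp

/-- A polynomial nonnegative at all integers and eventually less than a constant is constant. -/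
theorem eq_C_of_bdd {Q : ℚ[X]} {c : ℚ} (h0 : ∀ r : ℤ, 0 ≤ Q.eval (r : ℚ)) (h : PolyLT Q (C c)) :
    ∃ q : ℚ, Q = C q ∧ q < c := by
  have hQ : Q.natDegree = 0 := by
    by_contra hne
    have hdeg : 0 < Q.degree := by
      rw [← Polynomial.natDegree_pos_iff_degree_pos]
      omega
    obtain ⟨N, hN⟩ := h
    rcases le_total 0 Q.leadingCoeff with hl | hl
    · have h1 := (Polynomial.tendsto_atTop_of_leadingCoeff_nonneg Q hdeg hl).comp
        (tendsto_natCast_atTop_atTop (R := ℚ))
      have h2 := (h1.eventually_gt_atTop c).and (Filter.eventually_ge_atTop N)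
      obtain ⟨m, hm1, hm2⟩ := h2.exists
      have h3 := hN m hm2
      rw [eval_C] at h3
      exact absurd hm1 (not_lt.2 h3.le)
    · have h1 := (Polynomial.tendsto_atBot_of_leadingCoeff_nonpos Q hdeg hl).comp
        (tendsto_natCast_atTop_atTop (R := ℚ))
      obtain ⟨m, hm⟩ := (h1.eventually_lt_atBot (0 : ℚ)).exists
      have h3 := h0 m
      simp only [Function.comp_apply] at hm
      rw [Int.cast_natCast] at h3
      exact absurd hm (not_lt.2 h3)
  refine ⟨Q.coeff 0, Polynomial.eq_C_of_natDegree_eq_zero hQ, ?_⟩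
  obtain ⟨N, hN⟩ := h
  have h3 := hN N le_rfl
  rw [Polynomial.eq_C_of_natDegree_eq_zero hQ, eval_C, eval_C] at h3
  exact h3

theorem natDegree_bd_le {P : ℚ[X]} {d : ℕ} (h : P.natDegree ≤ d + 1) : (bd P).natDegree ≤ d := by
  rcases Nat.eq_zero_or_pos P.natDegree with h0 | h0
  · rw [Polynomial.eq_C_of_natDegree_eq_zero h0]
    simp [bd]
  · have hlt : (bd P).degree < P.degree := by
      have hP0 : P ≠ 0 := fun h => by rw [h] at h0; simp at h0
      refine Polynomial.degree_sub_lt_left ?_ hP0 ?_
      · rw [Polynomial.degree_eq_natDegree hP0, Polynomial.degree_eq_natDegree, Polynomial.natDegree_comp]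
        · have : (X - C (1 : ℚ)).natDegree = 1 := natDegree_X_sub_C 1
          rw [this, mul_one]
        · intro h
          have := congrArg Polynomial.natDegree h
          rw [Polynomial.natDegree_comp, natDegree_X_sub_C, mul_one] at this
          simp only [natDegree_zero] at this
          omega
      · rw [Polynomial.leadingCoeff_comp (by rw [natDegree_X_sub_C]; omega), leadingCoeff_X_sub_C, one_pow,
          mul_one]
    rcases eq_or_ne (bd P) 0 with h1 | h1
    · rw [h1]
      simp
    · have := Polynomial.natDegree_lt_natDegree h1 hlt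
      omega

/-- Auxiliary numbers. -/
theorem exists_bound (D : ℕ) (hD : 0 < D) (c : ℚ) (N₁ : ℤ) :
    ∃ N₀ : ℤ, N₁ < N₀ ∧ ∀ N : ℤ, N₀ ≤ N → c < (N : ℚ) - N₁ - 1 ∧ c < ((N : ℚ) - N₁) / D := by
  obtain ⟨a, ha⟩ := exists_nat_gt (max (c * D) c)
  refine ⟨N₁ + a + 1, by omega, fun N hN => ?_⟩
  have hN' : (N₁ : ℚ) + a + 1 ≤ N := by exact_mod_cast hN
  have h1 := (le_max_left (c * D) c).trans_lt ha
  have h2 := (le_max_right (c * D) c).trans_lt ha
  have hD' : (0 : ℚ) < D := by exact_mod_cast hD
  refine ⟨by linarith, ?_⟩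
  rw [lt_div_iff₀ hD']
  linarith

theorem main (n : ℕ) (Cs : List (ℤ → ℤ)) (P : ℚ[X]) (hPd : P.natDegree ≤ Cs.length) :
    ∃ N₀ : ℤ, ∀ N : ℤ, N₀ ≤ N → ∀ (K : Type u) [Field K] (S : Sys (n + 1) K) (Q : ℚ[X]),
      Serre S → (∀ i r, Module.Finite K ((S.C r).homology i)) → Kc Cs S →
      (∀ r : ℤ, (chi (n + 1) (S.C r) : ℚ) = Q.eval (r : ℚ)) →
        (Q = P → Reg S N) ∧
        (PolyLT Q P → (Module.finrank K ((S.C N).homology 0) : ℚ) < P.eval (N : ℚ)) := by
  induction Cs generalizing P with
  | nil =>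
    have hP0 : P = C (P.coeff 0) := Polynomial.eq_C_of_natDegree_eq_zero (by simpa using hPd)
    refine ⟨0, fun N _ K _ S Q _ hf hK hQ => ⟨fun _ i hi => hK i hi _, fun hlt => ?_⟩⟩
    have hreg : Reg S N := fun i hi => hK i hi _
    have h0 : ∀ r : ℤ, (Module.finrank K ((S.C r).homology 0) : ℚ) = Q.eval (r : ℚ) := fun r => by
      rw [← hQ r, ← h0_eq_chi (S := S) (μ := r) (fun i hi => hK i hi _) (n + 1) r (by omega)]
      simp
    rw [hP0] at hlt ⊢
    obtain ⟨q, hq, hqc⟩ := eq_C_of_bdd (fun r => by rw [← h0 r]; exact Nat.cast_nonneg _) hlt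
    rw [h0 N, hq, eval_C, eval_C]
    exact hqc
  | cons Cf Cs ih =>
    obtain ⟨N₁, hN₁⟩ := ih (bd P) (natDegree_bd_le (by simpa using hPd))
    obtain ⟨D, hD, hden⟩ := exists_den (bd P)
    obtain ⟨N₀, hlt0, hN₀⟩ := exists_bound D hD ((Cf N₁ : ℚ) - P.eval (N₁ : ℚ)) N₁
    refine ⟨N₀, fun N hN K _ S Q hs hf hK hQ => ?_⟩
    obtain ⟨hb, a, hm, hK'⟩ := hK
    obtain ⟨hN1, hN2⟩ := hN₀ N hN
    have hs' := serre_quot S a hm hs
    have hf' := finite_quot S a hm hf
    have hQ' : ∀ r : ℤ, (chi (n + 1) ((quot' S a).C r) : ℚ) = (bd Q).eval (r : ℚ) := fun r => by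
      rw [chi_quot S a hm hs hf r, eval_bd]
      push_cast
      rw [hQ r, hQ (r - 1)]
      push_cast
      ring
    -- the case where the section is regular
    have reg : bd Q = bd P → (∀ t : ℤ, N₁ ≤ t → (Module.finrank K ((S.C t).homology 0) : ℚ) =
        Q.eval (t : ℚ) + Module.finrank K ((S.C t).homology 1)) ∧
        (∀ j : ℕ, Module.finrank K ((S.C (N₁ + j)).homology 1) ≤ Module.finrank K ((S.C N₁).homology 1) - j) ∧
        (∀ q : ℕ, 2 ≤ q → ∀ t : ℤ, N₁ - q ≤ t → Subsingleton ((S.C t).homology q)) := by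
      intro hEq
      have hr : Reg (quot' S a) N₁ := (hN₁ N₁ le_rfl K (quot' S a) (bd Q) hs' hf' hK' hQ').1 hEq
      obtain ⟨hV, hG⟩ := castelnuovo _ _ _ _ hr
      have hv2 := van_two' S a hm hs hV
      refine ⟨fun t ht => ?_, H1_add S a hm hs hf hV hG, hv2⟩
      have h1 := chi_eq_sub (n := n + 1) (S.C t) (fun q hq => hv2 q hq t (by omega))
        (fun q hq => van_top (n + 1) K S hs q t (by omega) (by omega))
      have h2 := hQ t
      rw [h1] at h2
      push_cast at h2
      linarith
    have hbd : ((Module.finrank K ((S.C N₁).homology 0) : ℕ) : ℚ) ≤ Cf N₁ := by exact_mod_cast hb N₁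
    refine ⟨fun hEq => ?_, fun hlt => ?_⟩
    · obtain ⟨h1, h2, h3⟩ := reg (by rw [hEq])
      intro i hi
      rcases Nat.lt_or_ge 1 i with h | h
      · exact h3 i h _ (by omega)
      · obtain rfl : i = 1 := le_antisymm h hi
        obtain ⟨j, hj⟩ : ∃ j : ℕ, N - 1 = N₁ + j := ⟨(N - 1 - N₁).toNat, by omega⟩
        have h4 := h2 j
        have h5 := h1 N₁ le_rfl
        have hfin := hf 1 (N₁ + j)
        have h6 : (Module.finrank K ((S.C N₁).homology 1) : ℚ) ≤ (j : ℚ) := by
          have : (j : ℚ) = (N : ℚ) - N₁ - 1 := by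
            have : (j : ℤ) = N - N₁ - 1 := by omega
            exact_mod_cast this
          rw [this]
          rw [hEq] at h5
          linarith
        have h7 : Module.finrank K ((S.C N₁).homology 1) ≤ j := by exact_mod_cast h6
        have h8 : Module.finrank K ((S.C (N₁ + j)).homology 1) = 0 := by omega
        have h9 := (Module.finrank_zero_iff (R := K)).mp h8
        exact hsub_congr S (by push_cast; omega) 1 h9
    · rcases bd_cases ((K849.PolyOrd.polyLT_iff_sub).1 hlt) with hlt' | ⟨c, hc, hc'⟩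
      · -- the section has smaller Hilbert polynomial
        rw [bd_sub, ← K849.PolyOrd.polyLT_iff_sub] at hlt'
        have h1 : ∀ t : ℤ, N₁ ≤ t → (Module.finrank K (((quot' S a).C t).homology 0) : ℚ) + 1 / D ≤
            P.eval (t : ℚ) - P.eval ((t - 1 : ℤ) : ℚ) := by
          intro t ht
          obtain ⟨z, hz⟩ := hden t
          have h2 := gap hD hz (Module.finrank K (((quot' S a).C t).homology 0))
            (by
              have := (hN₁ t ht K (quot' S a) (bd Q) hs' hf' hK' hQ').2 hlt'
              push_cast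
              exact this)
          rw [eval_bd] at h2
          push_cast at h2 ⊢
          exact h2
        have h2 : ∀ j : ℕ, (Module.finrank K ((S.C (N₁ + j)).homology 0) : ℚ) ≤
            Cf N₁ + P.eval ((N₁ + j : ℤ) : ℚ) - P.eval (N₁ : ℚ) - j / D := by
          intro j
          induction j with
          | zero =>
            have e0 : N₁ + ((0 : ℕ) : ℤ) = N₁ := by simp
            rw [e0]
            simp only [Nat.cast_zero, zero_div, sub_zero]
            linarith
          | succ j ihj =>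
            have e1 : N₁ + ((j + 1 : ℕ) : ℤ) - 1 = N₁ + j := by push_cast; ring
            have h3 := h0_le S a hm hf (N₁ + ((j + 1 : ℕ) : ℤ))
            have h4 := h1 (N₁ + ((j + 1 : ℕ) : ℤ)) (by omega)
            rw [e1] at h3 h4
            have h5 : (Module.finrank K ((S.C (N₁ + ((j + 1 : ℕ) : ℤ))).homology 0) : ℚ) ≤
                (Module.finrank K ((S.C (N₁ + j)).homology 0) : ℚ) +
                  Module.finrank K (((quot' S a).C (N₁ + ((j + 1 : ℕ) : ℤ))).homology 0) := by
              exact_mod_cast h3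
            have h6 : (((j + 1 : ℕ) : ℚ)) / D = j / D + 1 / D := by push_cast; ring
            rw [h6]
            linarith
        obtain ⟨j, hj⟩ : ∃ j : ℕ, N = N₁ + j := ⟨(N - N₁).toNat, by omega⟩
        have h3 := h2 j
        rw [← hj] at h3
        have h4 : (j : ℚ) = (N : ℚ) - N₁ := by
          have : (j : ℤ) = N - N₁ := by omega
          exact_mod_cast this
        rw [h4] at h3
        linarith
      · -- the section has the same Hilbert polynomial
        have hPE2 : Q = P - Polynomial.C c := by rw [← hc']; ring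
        have hEq : bd Q = bd P := by
          rw [hPE2, bd_sub]
          have : bd (Polynomial.C c) = 0 := by simp [bd]
          rw [this, sub_zero]
        obtain ⟨h1, h2, -⟩ := reg hEq
        by_contra hge
        rw [not_lt] at hge
        obtain ⟨j, hj⟩ : ∃ j : ℕ, N = N₁ + j := ⟨(N - N₁).toNat, by omega⟩
        have h3 := h1 N (by omega)
        have h4 := h1 N₁ le_rfl
        rw [hPE2, eval_sub, eval_C] at h3 h4
        have h5 := h2 j
        rw [← hj] at h5
        have h6 : c ≤ (Module.finrank K ((S.C N).homology 1) : ℚ) := by linarith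
        have h7 : 0 < Module.finrank K ((S.C N).homology 1) := by
          have : (0 : ℚ) < (Module.finrank K ((S.C N).homology 1) : ℚ) := lt_of_lt_of_le hc h6
          exact_mod_cast this
        have h8 : Module.finrank K ((S.C N).homology 1) + j ≤ Module.finrank K ((S.C N₁).homology 1) := by omega
        have h9 : (Module.finrank K ((S.C N).homology 1) : ℚ) + j ≤ Module.finrank K ((S.C N₁).homology 1) := by
          exact_mod_cast h8
        have h10 : (j : ℚ) = (N : ℚ) - N₁ := by
          have : (j : ℤ) = N - N₁ := by omega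
          exact_mod_cast this
        linarith

end Groth.Agent.Coherent.K51.KlmSys
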