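import Groth.Agent.Coherent.K52.Main
import Groth.Agent.Coherent.K51.KlmSys
import Groth.Agent.Coherent.K51.CorX

/-!
# The uniform estimate for pure sheaves with bounded slopes

`unif`: for `n, d ≥ 1, r, b` and a polynomial `P` of degree at most `d` there is `N₀` such that for every `N ≥ N₀`
and every pure coherent sheaf `E` of dimension `d` on `P^n_k`, `k` a field of characteristic zero, with multiplicity
at most `r` and such that all its submodules are of slope at most `b`: if `P_E = P` then `E` is `N`-regular, and if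
`P_E < P` then `h⁰(E(N)) < P(N)`.
-/

set_option autoImplicit false
universe u
open CategoryTheory CategoryTheory.Limits AlgebraicGeometry Polynomial

namespace Groth.Agent.Coherent.K51.Simp

open Groth.Agent Groth.Agent.VarietyB.EulerBinom StabCat K244.RegSeq
open Groth.Agent.Coherent.K51.KlmPoly Groth.Agent.Coherent.K51.Klm Groth.Agent.Coherent.K51.HPDict
open Groth.Agent.Coherent.K51.LPS Groth.Agent.Coherent.K51.Cor

theorem hyp {k : Type u} [Field k] [CharZero k] {n d r : ℕ} {b : ℚ} {E : (CohB1.ProjSpace n k).Modules} {φ : ℚ[X]}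
    (h : Cls k n d r b E φ) : K52.Bound.Hyp E d r b where
  coh := h.coh
  pure := fun G ι hι hG h0 => (h.slope G ι hι hG h0).1
  rank := fun P hP => by
    have h1 : P = φ := K52.HP.HP_unique hP h.hp
    rw [h1]
    exact h.rank
  slope := fun _ G ι hι hG h0 P hP => (h.slope G ι hι hG h0).2 P hP

theorem unif (n d r : ℕ) (b : ℚ) (P : ℚ[X]) (hP : P.natDegree ≤ d) :
    Unif.{u} (fun k _ => CharZero k) n d r b P := by
  obtain ⟨N₀, h⟩ := KlmSys.main.{u} n (K52.Main.bl r (K52.Main.XX d r b) d) P
    (by rw [K52.Main.length_bl]; exact hP)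
  refine ⟨N₀, fun N hN k _ hk E φ hE => ?_⟩
  have hh := hyp hE
  obtain ⟨h1, h2⟩ := h N hN _ _ φ (K52.Main.serre0 hh) (K52.Main.fin0 hh) (K52.Main.kc hh) (K52.Main.chi0 hh hE.hp)
  refine ⟨fun e q hq _ => K52.Main.reg_HH hh.coh ((K52.Main.reg_iff E N).1 (h1 e)) q hq (N - q) le_rfl,
    fun e => ?_⟩
  have h3 := h2 e
  have h4 := K52.Main.hd_zero E N
  have h5 : (Module.finrank k (H k n E N 0) : ℚ) =
      ((Module.finrank k (Coh.HH (Fga.MumDict.PP k n) (Fga.MumReg.tw E N) 0) : ℤ) : ℚ) := rfl
  rw [h5, ← h4]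
  exact h3

theorem unifAll : UnifAll.{u} := fun n d r b P _ hP => unif n d r b P hP

end Groth.Agent.Coherent.K51.Simp
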